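import Groth.Agent.GrSerre43.Eventual
import Mathlib.RingTheory.IntegralClosure.IntegrallyClosed

/-! `S_d = Γ(Proj S, O(d))` for an integrally closed graded domain generated in degree one. -/

universe u

open CategoryTheory AlgebraicGeometry TopologicalSpace Opposite GrMod

noncomputable section

namespace Groth.Agent.GrSerre43

open Groth.Agent.EGAProj74.GrT Groth.Agent.LC17

variable {R A : Type u} [CommRing R] [CommRing A] [IsDomain A] [IsNoetherianRing A] [Algebra R A]
  (𝒜 : ℕ → Submodule R A) [GradedAlgebra 𝒜]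

theorem normal_bijective (h1 : 𝒜 1 ≠ ⊥) (hint : IsIntegrallyClosed A) (d : ℕ) :
    Function.Bijective (fun a : 𝒜 d => GrMod.globalOf 𝒜 𝒜 a) := by
  classical
  obtain ⟨f, hf, hf0⟩ := Submodule.exists_mem_ne_zero_of_ne_bot h1
  have hnirr : ¬ (HomogeneousIdeal.irrelevant 𝒜).toIdeal ≤ (⊥ : Ideal A) := fun h =>
    hf0 (Ideal.mem_bot.mp (h (HomogeneousIdeal.mem_irrelevant_of_mem 𝒜 one_pos hf)))
  constructor
  · intro a b hab
    let x0 : ProjectiveSpectrum 𝒜 := ⟨⊥, Ideal.isPrime_bot, hnirr⟩
    have h : frac x0 (a : A) 1 (one_nin x0) = frac x0 (b : A) 1 (one_nin x0) :=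
      congrArg (fun s : sect 𝒜 𝒜 (d : ℤ) (op ⊤) => (s.1 ⟨x0, trivial⟩).1) hab
    obtain ⟨c, hc, e⟩ := frac_eq_iff.mp h
    rw [one_smul, one_smul, smul_eq_mul, mul_eq_zero, sub_eq_zero] at e
    exact Subtype.ext (e.resolve_left fun h0 => hc (h0 ▸ zero_mem _))
  · intro s
    obtain ⟨K, m, hr⟩ := GrSections.exists_rep s one_pos hf
    obtain ⟨i, hm, hi⟩ := hr.1
    have hi' : i = K + d := by
      have : (i : ℤ) = K + d := by simpa using hi
      exact_mod_cast this
    -- a power of the irrelevant ideal lies in the colon ideal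
    let J : Ideal A := Submodule.comap (LinearMap.toSpanSingleton A A m) (Ideal.span {f ^ K})
    have hJ : irr 𝒜 ≤ J.radical := by
      refine GrAlpha.irrelevant_le_of_forall fun e g he hg => ?_
      obtain ⟨l, m', hr'⟩ := GrSections.exists_rep s he hg
      obtain ⟨N, hN⟩ := GrSections.rep_agree one_pos hf hg hr hr'
      by_cases hg0 : g = 0
      · subst hg0; exact zero_mem _
      refine ⟨l, ?_⟩
      rw [smul_eq_mul, mul_eq_zero, smul_eq_mul, smul_eq_mul, sub_eq_zero] at hN
      change g ^ l * m ∈ Ideal.span {f ^ K}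
      rw [
        hN.resolve_left (pow_ne_zero _ (mul_ne_zero hf0 hg0))]
      exact Ideal.mem_span_singleton'.mpr ⟨m', mul_comm _ _⟩
    obtain ⟨L₀, hL₀⟩ := Ideal.exists_pow_le_of_le_radical_of_fg hJ (IsNoetherian.noetherian _)
    obtain ⟨L, hL⟩ := exists_deg_pow (𝒜 := 𝒜) L₀
    let H : Submodule A A := high A 𝒜 L
    let F := FractionRing A
    let q : F := algebraMap A F m / algebraMap A F (f ^ K)
    have hfK : algebraMap A F (f ^ K) ≠ 0 :=
      (map_ne_zero_iff _ (IsFractionRing.injective A F)).mpr (pow_ne_zero _ hf0)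
    have hint' : IsIntegral A q := by
      refine isIntegral_of_smul_mem_submodule (M := F) (H.map (Algebra.linearMap A F)) ?_ ?_ q ?_
      · refine fun h => pow_ne_zero L hf0 (IsFractionRing.injective A F ?_)
        rw [map_zero, ← Submodule.mem_bot (R := A), ← h]
        exact Submodule.mem_map_of_mem (f := Algebra.linearMap A F)
          (mem_high le_rfl (by simpa using SetLike.pow_mem_graded L hf))
      · exact (IsNoetherian.noetherian H).map _
      · rintro _ ⟨x, hx, rfl⟩
        rw [Algebra.linearMap_apply, smul_eq_mul]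
        induction hx using Submodule.span_induction with
        | mem a ha =>
          obtain ⟨j, hj, haj⟩ := Set.mem_iUnion₂.mp ha
          obtain ⟨b, hb⟩ := Ideal.mem_span_singleton'.mp (hL₀ (hL j hj a haj) :
            a • m ∈ Ideal.span {f ^ K})
          replace hb : b * f ^ K = a * m := hb
          have hb' : b = (DirectSum.decompose 𝒜 b (j + d) : A) := by
            have h2 := GrCoker.zcomp_smul (ℳ := 𝒜) (SetLike.pow_mem_graded K hf)
              ((j + d : ℕ) : ℤ) b
            rw [show ((j + d : ℕ) : ℤ) + ((K • 1 : ℕ) : ℤ) = ((j + i : ℕ) : ℤ) by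
              simp [hi']; ring] at h2
            simp only [GrCoker.zcomp, if_pos (Int.natCast_nonneg _), Int.toNat_natCast] at h2
            rw [smul_eq_mul, mul_comm (f ^ K) b, hb,
              DirectSum.decompose_of_mem_same 𝒜 (SetLike.mul_mem_graded haj hm), smul_eq_mul] at h2
            refine mul_left_cancel₀ (pow_ne_zero K hf0) ?_
            rw [← h2, mul_comm, hb]
          refine ⟨b, hb' ▸ mem_high (A := A) (Nat.le_add_right_of_le hj) (SetLike.coe_mem _), ?_⟩
          rw [Algebra.linearMap_apply, div_mul_eq_mul_div, eq_div_iff hfK, ← map_mul, ← map_mul, hb,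
            mul_comm]
        | zero => simp
        | add a b _ _ h h' => rw [map_add, mul_add]; exact add_mem h h'
        | smul c a _ h =>
          rw [smul_eq_mul, map_mul, mul_left_comm, ← Algebra.smul_def]
          exact Submodule.smul_mem _ c h
    obtain ⟨y, hy⟩ := IsIntegrallyClosedIn.algebraMap_eq_of_integral hint'
    have hmy : m = f ^ K * y := by
      refine IsFractionRing.injective A F ?_
      rw [map_mul, hy, mul_div_cancel₀ _ hfK]
    let y' : A := DirectSum.decompose 𝒜 y d
    have hmy' : m = f ^ K • y' := by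
      have h2 := GrCoker.zcomp_smul (ℳ := 𝒜) (SetLike.pow_mem_graded K hf) ((d : ℕ) : ℤ) y
      rw [show ((d : ℕ) : ℤ) + ((K • 1 : ℕ) : ℤ) = ((i : ℕ) : ℤ) by simp [hi']; ring] at h2
      simp only [GrCoker.zcomp, if_pos (Int.natCast_nonneg _), Int.toNat_natCast] at h2
      rw [smul_eq_mul, ← hmy, DirectSum.decompose_of_mem_same 𝒜 hm] at h2
      exact h2
    refine ⟨⟨y', SetLike.coe_mem _⟩, sect_ext fun x => ?_⟩
    obtain ⟨e, g, he, hg, hgx⟩ := exists_pos_notMem 𝒜 x.1
    obtain ⟨l, m', hr'⟩ := GrSections.exists_rep s he hg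
    obtain ⟨N, hN⟩ := GrSections.rep_agree one_pos hf hg hr hr'
    rw [show (s.1 x).1 = frac x.1 m' (g ^ l) (pow_notMem hgx l) from hr'.2 x.1 hgx]
    refine frac_congr ?_
    have hg0 : g ≠ 0 := fun h => hgx (h ▸ zero_mem _)
    rw [smul_eq_mul, mul_eq_zero, sub_eq_zero] at hN
    have hN' := hN.resolve_left (pow_ne_zero _ (mul_ne_zero hf0 hg0))
    rw [hmy', smul_comm] at hN'
    simp only [smul_eq_mul] at hN' ⊢
    rw [one_mul]
    exact mul_left_cancel₀ (pow_ne_zero K hf0) hN'

end Groth.Agent.GrSerre43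

end
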