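import Groth.Agent.LC17.GrCoker
import Groth.Agent.Var76.HomAvoid
import Mathlib.RingTheory.Regular.IsSMulRegular
import Mathlib.RingTheory.Ideal.AssociatedPrime.Finiteness

/-!
# Serre's theorem: `M_n → Γ(Proj, M(n)~)` is bijective for large `n`

Elementary proof: choose a homogeneous `f` of positive degree regular on `M` modulo torsion, and use
that saturation with respect to the irrelevant ideal changes nothing in high degrees.
-/

universe u

open CategoryTheory AlgebraicGeometry TopologicalSpace Opposite GrMod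

noncomputable section

namespace Groth.Agent.GrSerre43

open Groth.Agent.EGAProj74.GrT Groth.Agent.LC17

variable {A σ : Type u} [CommRing A] [SetLike σ A] [AddSubgroupClass σ A] {𝒜 : ℕ → σ} [GradedRing 𝒜]

variable (𝒜) in
/-- the irrelevant ideal -/
abbrev irr : Ideal A := (HomogeneousIdeal.irrelevant 𝒜).toIdeal

lemma exists_deg_pow [IsNoetherianRing A] (K : ℕ) :
    ∃ N : ℕ, ∀ n, N ≤ n → ∀ a ∈ 𝒜 n, a ∈ irr 𝒜 ^ K := by
  classical
  obtain ⟨ι, _, d, g, hd, hg, hgen⟩ := GrCoker.exists_gens (𝒜 := 𝒜)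
  induction K with
  | zero => exact ⟨0, fun n _ a _ => by simp⟩
  | succ K ih =>
    obtain ⟨N, hN⟩ := ih
    refine ⟨N + Finset.univ.sup d + 1, fun n hn a ha => ?_⟩
    obtain ⟨c, hc⟩ := Ideal.mem_span_range_iff_exists_fun.mp
      (hgen (HomogeneousIdeal.mem_irrelevant_of_mem 𝒜 (by omega) ha))
    have key : a = ∑ i, (DirectSum.decompose 𝒜 (c i) (n - d i) : A) * g i := by
      conv_lhs => rw [← DirectSum.decompose_of_mem_same 𝒜 ha, ← hc]
      rw [DirectSum.decompose_sum]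
      erw [DFinsupp.finsetSum_apply]
      rw [AddSubmonoidClass.coe_finsetSum]
      refine Finset.sum_congr rfl fun i _ => ?_
      exact DirectSum.coe_decompose_mul_of_right_mem_of_le 𝒜 (hg i)
        (by have := Finset.le_sup (f := d) (Finset.mem_univ i); omega)
    rw [key, pow_succ]
    exact sum_mem fun i _ => Ideal.mul_mem_mul
      (hN _ (by have := Finset.le_sup (f := d) (Finset.mem_univ i); omega) _ (SetLike.coe_mem _))
      (HomogeneousIdeal.mem_irrelevant_of_mem 𝒜 (hd i) (hg i))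

variable {M τ : Type u} [AddCommGroup M] [Module A M] [SetLike τ M] [AddSubgroupClass τ M] {ℳ : ℕ → τ}
  [SetLike.GradedSMul 𝒜 ℳ] [DirectSum.Decomposition ℳ]

variable (𝒜) in
/-- the saturation of `Q` inside `P` -/
def sat (P Q : Submodule A M) : Submodule A M where
  carrier := {x | x ∈ P ∧ ∃ K : ℕ, ∀ r ∈ irr 𝒜 ^ K, r • x ∈ Q}
  zero_mem' := ⟨zero_mem _, 0, fun r _ => by simp⟩
  add_mem' := fun {x y} ⟨hx, K, hK⟩ ⟨hy, L, hL⟩ => ⟨add_mem hx hy, K + L, fun r hr => by
    rw [smul_add]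
    exact add_mem (hK r (Ideal.pow_le_pow_right (by omega) hr))
      (hL r (Ideal.pow_le_pow_right (by omega) hr))⟩
  smul_mem' := fun a x ⟨hx, K, hK⟩ => ⟨Submodule.smul_mem _ a hx, K, fun r hr => by
    rw [smul_comm]; exact Submodule.smul_mem _ a (hK r hr)⟩

lemma exists_uniform {P Q : Submodule A M} [IsNoetherianRing A] (hP : P.FG) :
    ∃ K : ℕ, ∀ x ∈ sat 𝒜 P Q, ∀ r ∈ irr 𝒜 ^ K, r • x ∈ Q := by
  classical
  have := isNoetherian_of_fg_of_noetherian P hP
  have hfg : (sat 𝒜 P Q).FG :=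
    isNoetherian_submodule.mp this _ fun x hx => hx.1
  obtain ⟨G, hG⟩ := hfg
  choose! k hk using fun x (hx : x ∈ (G : Set M)) => (hG ▸ Submodule.subset_span hx : x ∈ sat 𝒜 P Q).2
  refine ⟨G.sup k, fun x hx r hr => ?_⟩
  rw [← hG] at hx
  induction hx using Submodule.span_induction with
  | mem y hy => exact hk y hy r (Ideal.pow_le_pow_right (Finset.le_sup hy) hr)
  | zero => simp
  | add y z _ _ h h' => rw [smul_add]; exact add_mem h h'
  | smul a y _ h => rw [smul_comm]; exact Submodule.smul_mem _ a h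

/-- saturation changes nothing in high degrees -/
lemma sat_eventually [IsNoetherianRing A] {P Q : Submodule A M} (hP : P.FG)
    (hQ : ∀ m ∈ Q, ∀ i : ℕ, (DirectSum.decompose ℳ m i : M) ∈ Q) :
    ∃ N : ℕ, ∀ n, N ≤ n → ∀ x ∈ ℳ n, x ∈ sat 𝒜 P Q → x ∈ Q := by
  classical
  have := isNoetherian_of_fg_of_noetherian P hP
  obtain ⟨G, hG⟩ : (sat 𝒜 P Q).FG := isNoetherian_submodule.mp this _ fun x hx => hx.1
  obtain ⟨K, hK⟩ := exists_uniform (𝒜 := 𝒜) (P := P) (Q := Q) hP
  obtain ⟨N₀, hN₀⟩ := exists_deg_pow (𝒜 := 𝒜) K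
  let B := G.sup fun g => (DirectSum.decompose ℳ g).support.sup id
  refine ⟨N₀ + B + 1, fun n hn x hxn hx => ?_⟩
  rw [← DirectSum.decompose_of_mem_same ℳ hxn]
  suffices H : ∀ y ∈ Submodule.span A (G : Set M), ∀ i, N₀ + B + 1 ≤ i →
      (DirectSum.decompose ℳ y i : M) ∈ Q from H x (hG.symm ▸ hx) n hn
  intro y hy
  obtain ⟨c, -, rfl⟩ := Submodule.mem_span_finset.mp hy
  intro i hi
  rw [DirectSum.decompose_sum]
  erw [DFinsupp.finsetSum_apply]
  rw [AddSubmonoidClass.coe_finsetSum]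
  refine sum_mem fun g hg => ?_
  rw [← DirectSum.sum_support_decompose 𝒜 (c g), Finset.sum_smul, DirectSum.decompose_sum]
  erw [DFinsupp.finsetSum_apply]
  rw [AddSubmonoidClass.coe_finsetSum]
  refine sum_mem fun e _ => ?_
  by_cases he : N₀ ≤ e
  · exact hQ _ (hK g (hG ▸ Submodule.subset_span hg) _ (hN₀ e he _ (SetLike.coe_mem _))) i
  · have h := GrCoker.zcomp_smul (ℳ := ℳ) (SetLike.coe_mem (DirectSum.decompose 𝒜 (c g) e))
      ((i - e : ℕ) : ℤ) g
    rw [show ((i - e : ℕ) : ℤ) + (e : ℤ) = ((i : ℕ) : ℤ) by omega] at h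
    simp only [GrCoker.zcomp, if_pos (Int.natCast_nonneg _), Int.toNat_natCast] at h
    rw [h]
    have : DirectSum.decompose ℳ g (i - e) = 0 := by
      by_contra hne
      have h1 : i - e ≤ (DirectSum.decompose ℳ g).support.sup id :=
        Finset.le_sup (f := id) (DFinsupp.mem_support_iff.mpr hne)
      have h2 := Finset.le_sup (f := fun g => (DirectSum.decompose ℳ g).support.sup id) hg
      simp only [B] at hi
      omega
    rw [this, ZeroMemClass.coe_zero, smul_zero]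
    exact zero_mem _

variable (ℳ) in
/-- condition (TF): `M` is finitely generated in high degrees -/
def TF (k : ℕ) : Prop := (Submodule.span A (⋃ i ∈ Set.Ici k, (ℳ i : Set M))).FG

variable (A ℳ) in
/-- the submodule generated in degrees `≥ k` -/
abbrev high (k : ℕ) : Submodule A M := Submodule.span A (⋃ i ∈ Set.Ici k, (ℳ i : Set M))

omit [DirectSum.Decomposition ℳ] in
lemma mem_high {k n : ℕ} (h : k ≤ n) {x : M} (hx : x ∈ ℳ n) : x ∈ high A ℳ k :=
  Submodule.subset_span (Set.mem_biUnion (Set.mem_Ici.mpr h) hx)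

variable (𝒜) in
include 𝒜 in
lemma decompose_mem_high {k : ℕ} {m : M} (hm : m ∈ high A ℳ k) (i : ℕ) :
    (DirectSum.decompose ℳ m i : M) ∈ high A ℳ k := by
  classical
  induction hm using Submodule.span_induction generalizing i with
  | mem y hy =>
    obtain ⟨j, hj, hyj⟩ := Set.mem_iUnion₂.mp hy
    by_cases h : j = i
    · subst h
      rw [DirectSum.decompose_of_mem_same ℳ hyj]
      exact mem_high hj hyj
    · rw [DirectSum.decompose_of_mem_ne ℳ hyj h]; exact zero_mem _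
  | zero => simp
  | add y z _ _ h h' =>
    rw [DirectSum.decompose_add, DirectSum.add_apply, AddMemClass.coe_add]
    exact add_mem (h i) (h' i)
  | smul a y _ h =>
    rw [← DirectSum.sum_support_decompose 𝒜 a, Finset.sum_smul, DirectSum.decompose_sum]
    erw [DFinsupp.finsetSum_apply]
    rw [AddSubmonoidClass.coe_finsetSum]
    refine sum_mem fun e _ => ?_
    by_cases he : e ≤ i
    · have h1 := GrCoker.zcomp_smul (ℳ := ℳ) (SetLike.coe_mem (DirectSum.decompose 𝒜 a e))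
        ((i - e : ℕ) : ℤ) y
      rw [show ((i - e : ℕ) : ℤ) + (e : ℤ) = ((i : ℕ) : ℤ) by omega] at h1
      simp only [GrCoker.zcomp, if_pos (Int.natCast_nonneg _), Int.toNat_natCast] at h1
      rw [h1]
      exact Submodule.smul_mem _ _ (h _)
    · have h1 := GrCoker.zcomp_smul (ℳ := ℳ) (SetLike.coe_mem (DirectSum.decompose 𝒜 a e))
        ((i : ℤ) - e) y
      rw [show (i : ℤ) - e + (e : ℤ) = ((i : ℕ) : ℤ) by omega] at h1
      simp only [GrCoker.zcomp, if_pos (Int.natCast_nonneg _), Int.toNat_natCast,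
        if_neg (show ¬ (0 : ℤ) ≤ (i : ℤ) - e by omega), smul_zero] at h1
      rw [h1]
      exact zero_mem _

/-- a homogeneous element of positive degree, regular modulo torsion -/
lemma exists_regular [IsNoetherianRing A] {k : ℕ} (hTF : TF ℳ k (A := A)) :
    ∃ (d : ℕ) (f : A), 0 < d ∧ f ∈ 𝒜 d ∧
      ∀ x ∈ high A ℳ k, f • x ∈ sat 𝒜 (high A ℳ k) ⊥ → x ∈ sat 𝒜 (high A ℳ k) ⊥ := by
  classical
  let P := high A ℳ k
  let T : Submodule A P := (sat 𝒜 P ⊥).comap P.subtype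
  have : Module.Finite A P := Module.Finite.iff_fg.mpr hTF
  obtain ⟨K, hK⟩ := exists_uniform (𝒜 := 𝒜) (P := P) (Q := ⊥) hTF
  have hne : ∀ p ∈ associatedPrimes A (P ⧸ T), ¬ irr 𝒜 ≤ p := by
    intro p hp hle
    obtain ⟨hpp, xb, hxb⟩ := Submodule.isAssociatedPrime_iff.mp hp
    obtain ⟨x, rfl⟩ := Submodule.Quotient.mk_surjective T xb
    have hxT : (x : M) ∈ sat 𝒜 P ⊥ := by
      refine ⟨x.2, K + 1, fun r hr => ?_⟩
      rw [pow_succ] at hr
      induction hr using Submodule.mul_induction_on' with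
      | mem_mul_mem a ha b hb =>
        have hb' : b • (x : M) ∈ sat 𝒜 P ⊥ := by
          have hbp : b ∈ p := hle hb
          rw [hxb] at hbp
          have : b • (Submodule.Quotient.mk x : P ⧸ T) = 0 := by simpa using hbp
          rw [← Submodule.Quotient.mk_smul, Submodule.Quotient.mk_eq_zero] at this
          exact this
        rw [mul_smul]
        exact hK _ hb' a ha
      | add a _ b _ h h' => rw [add_smul]; exact add_mem h h'
    have h0 : (Submodule.Quotient.mk x : P ⧸ T) = 0 := (Submodule.Quotient.mk_eq_zero T).mpr hxT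
    refine hpp.ne_top ?_
    rw [hxb, h0]
    simp
  have hcore : ∀ p ∈ associatedPrimes A (P ⧸ T),
      ¬ irr 𝒜 ≤ (p.homogeneousCore 𝒜).toIdeal :=
    fun p hp h => hne p hp (h.trans (Ideal.toIdeal_homogeneousCore_le 𝒜 p))
  have hfin : (associatedPrimes A (P ⧸ T)).Finite := associatedPrimes.finite A (P ⧸ T)
  let S : Finset (ProjectiveSpectrum 𝒜) := hfin.toFinset.attach.image fun p =>
    ⟨(p.1).homogeneousCore 𝒜,
      (AssociatedPrimes.mem_iff.mp (hfin.mem_toFinset.mp p.2)).isPrime.homogeneousCore,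
      hcore p.1 (hfin.mem_toFinset.mp p.2)⟩
  obtain ⟨d, f, hd, hf, -, hfS⟩ := Var76.HomAvoid.exists_avoid (HomogeneousIdeal.irrelevant 𝒜) S
    (fun q _ => q.not_irrelevant_le)
  have hreg : IsSMulRegular (P ⧸ T) f := by
    by_contra h
    have hmem : f ∈ ⋃ p ∈ associatedPrimes A (P ⧸ T), (p : Set A) := by
      rw [biUnion_associatedPrimes_eq_compl_regular A (P ⧸ T)]; exact h
    obtain ⟨p, hp, hfp⟩ := Set.mem_iUnion₂.mp hmem
    refine hfS _ (Finset.mem_image.mpr ⟨⟨p, hfin.mem_toFinset.mpr hp⟩, Finset.mem_attach _ _, rfl⟩) ?_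
    exact Ideal.mem_homogeneousCore_of_homogeneous_of_mem ⟨d, hf⟩ hfp
  refine ⟨d, f, hd, hf, fun x hx h => ?_⟩
  have : f • (Submodule.Quotient.mk ⟨x, hx⟩ : P ⧸ T) = f • 0 := by
    rw [smul_zero, ← Submodule.Quotient.mk_smul, Submodule.Quotient.mk_eq_zero]
    exact h
  exact (Submodule.Quotient.mk_eq_zero T).mp (hreg this)

variable (𝒜 ℳ) in
/-- the data making the high degree argument work -/
structure Good (N k d : ℕ) (f : A) : Prop where
  le : k ≤ N
  pos : 0 < d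
  mem : f ∈ 𝒜 d
  reg : ∀ n, N ≤ n → ∀ x ∈ ℳ n, f • x = 0 → x = 0
  tors : ∀ n, N ≤ n → ∀ x ∈ ℳ n, (∃ K : ℕ, ∀ r ∈ irr 𝒜 ^ K, r • x = 0) → x = 0
  sat : ∀ n, N ≤ n → ∀ x ∈ ℳ n, (∃ K : ℕ, ∀ r ∈ irr 𝒜 ^ K, ∃ y ∈ high A ℳ k, r • x = f • y) →
    ∃ y ∈ high A ℳ k, x = f • y

lemma exists_good [IsNoetherianRing A] {k : ℕ} (hTF : TF ℳ k (A := A)) :
    ∃ N d f, Good 𝒜 ℳ N k d f := by
  classical
  obtain ⟨d, f, hd, hf, hreg⟩ := exists_regular (𝒜 := 𝒜) hTF
  obtain ⟨N₁, h₁⟩ := sat_eventually (𝒜 := 𝒜) (ℳ := ℳ) (P := high A ℳ k) (Q := ⊥) hTF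
    (fun m hm i => by rw [Submodule.mem_bot] at hm; subst hm; simp)
  obtain ⟨N₂, h₂⟩ := sat_eventually (𝒜 := 𝒜) (ℳ := ℳ) (P := high A ℳ k)
    (Q := (high A ℳ k).map (LinearMap.lsmul A M f)) hTF (fun m hm i => by
      obtain ⟨y, hy, rfl⟩ := hm
      by_cases h : d ≤ i
      · refine ⟨_, decompose_mem_high 𝒜 hy (i - d), ?_⟩
        have h1 := GrCoker.zcomp_smul (ℳ := ℳ) hf ((i - d : ℕ) : ℤ) y
        rw [show ((i - d : ℕ) : ℤ) + (d : ℤ) = ((i : ℕ) : ℤ) by omega] at h1
        simp only [GrCoker.zcomp, if_pos (Int.natCast_nonneg _), Int.toNat_natCast] at h1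
        exact h1.symm
      · have h1 := GrCoker.zcomp_smul (ℳ := ℳ) hf ((i : ℤ) - d) y
        rw [show (i : ℤ) - d + (d : ℤ) = ((i : ℕ) : ℤ) by omega] at h1
        simp only [GrCoker.zcomp, if_pos (Int.natCast_nonneg _), Int.toNat_natCast,
          if_neg (show ¬ (0 : ℤ) ≤ (i : ℤ) - d by omega), smul_zero] at h1
        change (DirectSum.decompose ℳ (f • y) i : M) ∈ _
        rw [h1]; exact zero_mem _)
  refine ⟨max k (max N₁ N₂), d, f, le_max_left _ _, hd, hf, fun n hn x hx h => ?_,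
    fun n hn x hx h => ?_, fun n hn x hx h => ?_⟩
  · refine Submodule.mem_bot A |>.mp (h₁ n (by omega) x hx ?_)
    exact hreg x (mem_high (by omega) hx) (h ▸ zero_mem _)
  · exact Submodule.mem_bot A |>.mp (h₁ n (by omega) x hx
      ⟨mem_high (by omega) hx, h.imp fun K hK r hr => Submodule.mem_bot A |>.mpr (hK r hr)⟩)
  · obtain ⟨y, hy, hxy⟩ := h₂ n (by omega) x hx ⟨mem_high (by omega) hx,
      h.imp fun K hK r hr => by obtain ⟨y, hy, e⟩ := hK r hr; exact ⟨y, hy, e.symm⟩⟩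
    exact ⟨y, hy, hxy.symm⟩

namespace Good

variable {N k d : ℕ} {f : A} (G : Good 𝒜 ℳ N k d f)
include G

omit [DirectSum.Decomposition ℳ] in
lemma reg_pow (j : ℕ) : ∀ n, N ≤ n → ∀ x ∈ ℳ n, f ^ j • x = 0 → x = 0 := by
  induction j with
  | zero => intro n _ x _ h; simpa using h
  | succ j ih =>
    intro n hn x hx h
    rw [pow_succ, mul_smul] at h
    exact G.reg n hn x hx (ih (d + n) (by omega) _ (gsmul_mem 𝒜 ℳ G.mem hx) h)

variable [IsNoetherianRing A]

lemma descend (K : ℕ) : ∀ n : ℕ, N ≤ n → ∀ (s : sect 𝒜 ℳ (n : ℤ) (op ⊤)), ∀ z ∈ ℳ (K * d + n),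
    (∀ x : (⊤ : Opens (ProjectiveSpectrum.top 𝒜)),
      f ^ K • (s.1 x).1 = frac x.1 z 1 (one_nin x.1)) →
    ∃ m : ℳ n, globalOf 𝒜 ℳ m = s := by
  classical
  induction K with
  | zero =>
    intro n _ s z hz h
    rw [zero_mul, zero_add] at hz
    refine ⟨⟨z, hz⟩, sect_ext fun x => ?_⟩
    have := h x
    rw [pow_zero, one_smul] at this
    exact this.symm
  | succ K ih =>
    intro n hn s z hz h
    have key : ∀ (e : ℕ) (g : A), 0 < e → g ∈ 𝒜 e → ∀ l (m : M), GrSections.Rep s e g l m →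
        ∃ j, g ^ j • (g ^ l • z - f ^ (K + 1) • m) = 0 := by
      intro e g he hg l m hr
      obtain ⟨⟨i, hm, hi⟩, hs⟩ := hr
      refine exists_pow_smul_eq_zero 𝒜 ℳ he hg (j := l * e + ((K + 1) * d + n)) ?_ fun x hx => ?_
      · refine sub_mem (gsmul_mem 𝒜 ℳ (by simpa using SetLike.pow_mem_graded l hg) hz) ?_
        rw [show l * e + ((K + 1) * d + n) = (K + 1) * d + i by
          have : i = l * e + n := by exact_mod_cast hi
          omega]
        exact gsmul_mem 𝒜 ℳ (by simpa using SetLike.pow_mem_graded (K + 1) G.mem) hm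
      · have h1 := h ⟨x, trivial⟩
        rw [show (s.1 ⟨x, trivial⟩).1 = frac x m (g ^ l) (pow_notMem hx l) from hs x hx] at h1
        rw [LocalizedModule.smul'_mk] at h1
        obtain ⟨a, ha, hazz⟩ := frac_eq_iff.mp h1.symm
        rw [one_smul] at hazz
        exact ⟨a, ha, hazz⟩
    -- `z` is a multiple of `f`
    let J : Ideal A := ((high A ℳ k).map (LinearMap.lsmul A M f)).comap (LinearMap.toSpanSingleton A M z)
    have hJ : irr 𝒜 ≤ J.radical := by
      refine GrAlpha.irrelevant_le_of_forall fun e g he hg => ?_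
      obtain ⟨l, m, hr⟩ := GrSections.exists_rep s he hg
      obtain ⟨j, hj⟩ := key e g he hg l m hr
      obtain ⟨⟨i, hm, hi⟩, -⟩ := hr
      refine ⟨j + l, g ^ j • f ^ K • m, ?_, ?_⟩
      · refine Submodule.smul_mem _ _ (Submodule.smul_mem _ _ (mem_high ?_ hm))
        have : i = l * e + n := by exact_mod_cast hi
        have := G.le; omega
      · rw [smul_sub, sub_eq_zero] at hj
        simp only [LinearMap.toSpanSingleton_apply, LinearMap.lsmul_apply]
        rw [pow_add, mul_smul, hj, pow_succ', mul_smul, smul_comm]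
    obtain ⟨L, hL⟩ := Ideal.exists_pow_le_of_le_radical_of_fg hJ (IsNoetherian.noetherian _)
    obtain ⟨y, hy, hzy⟩ := G.sat ((K + 1) * d + n) (by omega) z hz ⟨L, fun r hr => by
      obtain ⟨y, hy, e⟩ := hL hr
      exact ⟨y, hy, e.symm⟩⟩
    let y' : M := (DirectSum.decompose ℳ y (K * d + n) : M)
    have hzy' : z = f • y' := by
      have h1 := GrCoker.zcomp_smul (ℳ := ℳ) G.mem ((K * d + n : ℕ) : ℤ) y
      rw [show ((K * d + n : ℕ) : ℤ) + (d : ℤ) = (((K + 1) * d + n : ℕ) : ℤ) by push_cast; ring] at h1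
      simp only [GrCoker.zcomp, if_pos (Int.natCast_nonneg _), Int.toNat_natCast] at h1
      rw [← hzy, DirectSum.decompose_of_mem_same ℳ hz] at h1
      exact h1
    refine ih n hn s y' (SetLike.coe_mem _) fun x => ?_
    obtain ⟨e, g, he, hg, hgx⟩ := exists_pos_notMem 𝒜 x.1
    obtain ⟨l, m, hr⟩ := GrSections.exists_rep s he hg
    obtain ⟨j, hj⟩ := key e g he hg l m hr
    obtain ⟨⟨i, hm, hi⟩, hs⟩ := hr
    have hi' : i = l * e + n := by exact_mod_cast hi
    rw [show (s.1 x).1 = frac x.1 m (g ^ l) (pow_notMem hgx l) from hs x.1 hgx,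
      LocalizedModule.smul'_mk]
    refine Eq.symm (frac_eq_iff.mpr ⟨g ^ j, pow_notMem hgx j, ?_⟩)
    rw [one_smul]
    refine G.reg (j * e + (l * e + (K * d + n))) (by omega) _ ?_ ?_
    · refine gsmul_mem 𝒜 ℳ (by simpa using SetLike.pow_mem_graded j hg) ?_
      refine sub_mem (gsmul_mem 𝒜 ℳ (by simpa using SetLike.pow_mem_graded l hg) (SetLike.coe_mem _)) ?_
      rw [show l * e + (K * d + n) = K * d + i by omega]
      exact gsmul_mem 𝒜 ℳ (by simpa using SetLike.pow_mem_graded K G.mem) hm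
    · rw [← hj, hzy', pow_succ']
      simp only [smul_sub, smul_smul]
      congr 2 <;> ring

lemma bijective (n : ℕ) (hn : N ≤ n) : Function.Bijective (fun m : ℳ n => globalOf 𝒜 ℳ m) := by
  classical
  constructor
  · intro a b hab
    refine Subtype.ext (sub_eq_zero.mp (G.tors n hn _ (sub_mem a.2 b.2) ?_))
    have h : GrMod.alpha 𝒜 ℳ n (a - b) = 0 := by rw [map_sub, sub_eq_zero]; exact hab
    exact (GrAlpha.alpha_eq_zero_iff (𝒜 := 𝒜) (ℳ := ℳ) (a - b)).mp h
  · intro s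
    obtain ⟨K, z, hr⟩ := GrSections.exists_rep s G.pos G.mem
    obtain ⟨⟨i, hz, hi⟩, hs⟩ := hr
    have hi' : i = K * d + n := by exact_mod_cast hi
    refine G.descend K n hn s z (hi' ▸ hz) fun x => ?_
    obtain ⟨e, g, he, hg, hgx⟩ := exists_pos_notMem 𝒜 x.1
    obtain ⟨l, m, hr'⟩ := GrSections.exists_rep s he hg
    obtain ⟨j, hj⟩ := GrSections.rep_agree G.pos G.mem hg ⟨⟨i, hz, hi⟩, hs⟩ hr'
    obtain ⟨⟨i', hm, hi''⟩, hs'⟩ := hr'
    have hi3 : i' = l * e + n := by exact_mod_cast hi''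
    rw [show (s.1 x).1 = frac x.1 m (g ^ l) (pow_notMem hgx l) from hs' x.1 hgx,
      LocalizedModule.smul'_mk]
    refine Eq.symm (frac_eq_iff.mpr ⟨g ^ j, pow_notMem hgx j, ?_⟩)
    rw [one_smul]
    refine G.reg_pow j (j * e + (l * e + (K * d + n))) (by omega) _ ?_ ?_
    · refine gsmul_mem 𝒜 ℳ (by simpa using SetLike.pow_mem_graded j hg) ?_
      refine sub_mem (gsmul_mem 𝒜 ℳ (by simpa using SetLike.pow_mem_graded l hg) (hi' ▸ hz)) ?_
      rw [show l * e + (K * d + n) = K * d + i' by omega]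
      exact gsmul_mem 𝒜 ℳ (by simpa using SetLike.pow_mem_graded K G.mem) hm
    · rw [← hj, smul_smul, mul_pow]

end Good

theorem eventually_bijective [IsNoetherianRing A]
    (hTF : ∃ k : ℕ, TF ℳ k (A := A)) :
    ∃ N : ℕ, ∀ n : ℕ, N ≤ n → Function.Bijective (fun m : ℳ n => globalOf 𝒜 ℳ m) := by
  obtain ⟨k, hk⟩ := hTF
  obtain ⟨N, d, f, G⟩ := exists_good (𝒜 := 𝒜) hk
  exact ⟨N, fun n hn => G.bijective n hn⟩

end Groth.Agent.GrSerre43

end
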