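import Groth.Agent.GrSerre43.Eventual

/-! The module of twisted sections is eventually generated in a single degree. -/

universe u

open CategoryTheory AlgebraicGeometry TopologicalSpace Opposite GrMod

noncomputable section

namespace Groth.Agent.GrSerre43

open Groth.Agent.EGAProj74.GrT Groth.Agent.LC17

variable {A σ : Type u} [CommRing A] [SetLike σ A] [AddSubgroupClass σ A] {𝒜 : ℕ → σ} [GradedRing 𝒜]

variable (𝒜) in
/-- products of degree `e` and `r` -/
def prods (e r : ℕ) : AddSubgroup A :=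
  AddSubgroup.closure {x | ∃ a ∈ 𝒜 e, ∃ b ∈ 𝒜 r, x = a * b}

lemma mem_prods_one (hgen : irr 𝒜 = Ideal.span (𝒜 1 : Set A)) (m : ℕ) {a : A} (ha : a ∈ 𝒜 (m + 1)) :
    a ∈ prods 𝒜 m 1 := by
  classical
  have h : ∀ x ∈ Ideal.span (𝒜 1 : Set A), ∀ c : A,
      (DirectSum.decompose 𝒜 (c * x) (m + 1) : A) ∈ prods 𝒜 m 1 := by
    intro x hx
    induction hx using Submodule.span_induction with
    | mem b hb =>
      intro c
      rw [DirectSum.coe_decompose_mul_of_right_mem_of_le 𝒜 hb (by omega), Nat.add_sub_cancel]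
      exact AddSubgroup.subset_closure ⟨_, SetLike.coe_mem _, b, hb, rfl⟩
    | zero => intro c; simp
    | add y z _ _ h h' =>
      intro c
      rw [mul_add, DirectSum.decompose_add, DirectSum.add_apply, AddMemClass.coe_add]
      exact add_mem (h c) (h' c)
    | smul r y _ h => intro c; rw [smul_eq_mul, ← mul_assoc]; exact h _
  have := h a (hgen ▸ HomogeneousIdeal.mem_irrelevant_of_mem 𝒜 (Nat.succ_pos m) ha) 1
  rwa [one_mul, DirectSum.decompose_of_mem_same 𝒜 ha] at this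

lemma mem_prods (hgen : irr 𝒜 = Ideal.span (𝒜 1 : Set A)) (e : ℕ) :
    ∀ r, ∀ a ∈ 𝒜 (e + r), a ∈ prods 𝒜 e r := by
  intro r
  induction r with
  | zero =>
    intro a ha
    exact AddSubgroup.subset_closure ⟨a, ha, 1, SetLike.GradedOne.one_mem, (mul_one a).symm⟩
  | succ r ih =>
    intro a ha
    refine (AddSubgroup.closure_le _).mpr ?_ (mem_prods_one hgen (e + r) ha)
    rintro _ ⟨x, hx, y, hy, rfl⟩
    have := ih x hx
    refine (AddSubgroup.closure_le (K := (prods 𝒜 e (r + 1)).comap (AddMonoidHom.mulRight y))).mpr ?_ this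
    rintro _ ⟨p, hp, q, hq, rfl⟩
    change p * q * y ∈ prods 𝒜 e (r + 1)
    exact AddSubgroup.subset_closure ⟨p, hp, q * y, SetLike.mul_mem_graded hq hy, mul_assoc _ _ _⟩

variable {M τ : Type u} [AddCommGroup M] [Module A M] [SetLike τ M] [AddSubgroupClass τ M] {ℳ : ℕ → τ}
  [SetLike.GradedSMul 𝒜 ℳ] [DirectSum.Decomposition ℳ]

variable (𝒜 ℳ) in
/-- products of degree `e` scalars and degree `r` vectors -/
def sprods (e r : ℕ) : AddSubgroup M :=
  AddSubgroup.closure {x | ∃ a ∈ 𝒜 e, ∃ b ∈ ℳ r, x = a • b}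

lemma exists_degree_bound (hgen : irr 𝒜 = Ideal.span (𝒜 1 : Set A)) {k : ℕ} (hTF : TF ℳ k (A := A)) :
    ∃ B, k ≤ B ∧ ∀ b, B ≤ b → ∀ e, ∀ x ∈ ℳ (b + e), x ∈ sprods 𝒜 ℳ e b := by
  classical
  obtain ⟨G, hG⟩ := hTF
  let B₀ := G.sup fun g => (DirectSum.decompose ℳ g).support.sup id
  refine ⟨k + B₀, Nat.le_add_right _ _, fun b hb e x hx => ?_⟩
  have hxs : x ∈ Submodule.span A (G : Set M) := hG.symm ▸ mem_high (k := k) (by omega) hx
  rw [← DirectSum.decompose_of_mem_same ℳ hx]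
  obtain ⟨c, -, rfl⟩ := Submodule.mem_span_finset.mp hxs
  rw [DirectSum.decompose_sum]
  erw [DFinsupp.finsetSum_apply]
  rw [AddSubmonoidClass.coe_finsetSum]
  refine sum_mem fun g hg => ?_
  rw [← DirectSum.sum_support_decompose 𝒜 (c g), Finset.sum_smul, DirectSum.decompose_sum]
  erw [DFinsupp.finsetSum_apply]
  rw [AddSubmonoidClass.coe_finsetSum]
  refine sum_mem fun j _ => ?_
  have h1 := GrCoker.zcomp_smul (ℳ := ℳ) (SetLike.coe_mem (DirectSum.decompose 𝒜 (c g) j))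
    ((b : ℤ) + e - j) g
  rw [show (b : ℤ) + e - j + (j : ℤ) = ((b + e : ℕ) : ℤ) by omega] at h1
  simp only [GrCoker.zcomp, if_pos (Int.natCast_nonneg _), Int.toNat_natCast] at h1
  rw [h1]
  by_cases hj : j ≤ b + e
  swap
  · rw [if_neg (by omega), smul_zero]; exact zero_mem _
  rw [if_pos (by omega), show ((b : ℤ) + e - j).toNat = b + e - j by omega]
  by_cases hlarge : e ≤ j
  · have hj' : (DirectSum.decompose 𝒜 (c g) j : A) ∈ 𝒜 (e + (j - e)) := by
      rw [Nat.add_sub_cancel' hlarge]; exact SetLike.coe_mem _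
    have := mem_prods hgen e (j - e) _ hj'
    refine (AddSubgroup.closure_le (K := (sprods 𝒜 ℳ e b).comap
      ((AddMonoidHom.flip (smulAddHom A M)) (DirectSum.decompose ℳ g (b + e - j) : M)))).mpr ?_ this
    rintro _ ⟨p, hp, q, hq, rfl⟩
    change (p * q) • _ ∈ sprods 𝒜 ℳ e b
    refine AddSubgroup.subset_closure ⟨p, hp, q • _, ?_, mul_smul p q _⟩
    have h2 := gsmul_mem 𝒜 ℳ hq (SetLike.coe_mem (DirectSum.decompose ℳ g (b + e - j)))
    rwa [show j - e + (b + e - j) = b by omega] at h2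
  · have : DirectSum.decompose ℳ g (b + e - j) = 0 := by
      by_contra hne
      have h1 : b + e - j ≤ (DirectSum.decompose ℳ g).support.sup id :=
        Finset.le_sup (f := id) (DFinsupp.mem_support_iff.mpr hne)
      have h2 := Finset.le_sup (f := fun g => (DirectSum.decompose ℳ g).support.sup id) hg
      simp only [B₀] at hb
      omega
    rw [this, ZeroMemClass.coe_zero, smul_zero]
    exact zero_mem _

variable [IsNoetherianRing A]

theorem iSup_range_smulSect (hgen : irr 𝒜 = Ideal.span (𝒜 1 : Set A))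
    (hTF : ∃ k : ℕ, TF ℳ k (A := A)) :
    ∃ k : ℕ, ∀ e : ℕ,
      (⨆ a : 𝒜 e, (GrMod.smulSect 𝒜 ℳ a (k : ℤ)
        (op (⊤ : Opens (ProjectiveSpectrum.top 𝒜)))).range) = ⊤ := by
  obtain ⟨N, hN⟩ := eventually_bijective (𝒜 := 𝒜) hTF
  obtain ⟨k, hk⟩ := hTF
  obtain ⟨B, -, hB⟩ := exists_degree_bound hgen hk
  obtain ⟨b, hbB, hbN⟩ : ∃ b, B ≤ b ∧ N ≤ b := ⟨max B N, le_max_left _ _, le_max_right _ _⟩
  refine ⟨b, fun e => eq_top_iff.mpr fun s _ => ?_⟩
  let S := ⨆ a : 𝒜 e, (GrMod.smulSect 𝒜 ℳ a (b : ℤ)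
        (op (⊤ : Opens (ProjectiveSpectrum.top 𝒜)))).range
  let s' : sect 𝒜 ℳ ((b + e : ℕ) : ℤ) (op ⊤) := cast (by rw [Nat.cast_add]) s
  obtain ⟨⟨x, hx⟩, hxs⟩ := (hN (b + e) (by omega)).2 s'
  have hval : ∀ y, (s.1 y).1 = frac y.1 x 1 (one_nin y.1) := by
    intro y
    have hcast : ∀ {n n' : ℤ} (h : n = n') (t : sect 𝒜 ℳ n (op ⊤)),
        ((cast (by rw [h]) t : sect 𝒜 ℳ n' (op ⊤)).1 y).1 = (t.1 y).1 := by
      intro n n' h t; subst h; rfl
    rw [← hcast (Nat.cast_add b e).symm s]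
    change (s'.1 y).1 = _
    rw [← hxs]
    rfl
  have : ∀ z ∈ sprods 𝒜 ℳ e b, ∃ t ∈ S, ∀ y, (t.1 y).1 = frac y.1 z 1 (one_nin y.1) := by
    intro z hz
    induction hz using AddSubgroup.closure_induction with
    | mem z hz =>
      obtain ⟨a, ha, m, hm, rfl⟩ := hz
      refine ⟨GrMod.smulSect 𝒜 ℳ ⟨a, ha⟩ (b : ℤ) _ (globalOf 𝒜 ℳ ⟨m, hm⟩),
        AddSubgroup.mem_iSup_of_mem ⟨a, ha⟩ ⟨_, rfl⟩, fun y => ?_⟩
      rw [smulSect_apply_coe, globalOf_apply_coe, LocalizedModule.mk_smul_mk, one_mul]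
      rfl
    | zero => exact ⟨0, zero_mem _, fun y => (LocalizedModule.zero_mk _).symm⟩
    | add z w _ _ h h' =>
      obtain ⟨t, ht, e1⟩ := h
      obtain ⟨t', ht', e2⟩ := h'
      refine ⟨t + t', add_mem ht ht', fun y => ?_⟩
      show (t.1 y).1 + (t'.1 y).1 = _
      rw [e1, e2]
      exact ((LocalizedModule.mkLinearMap _ M).map_add z w).symm
    | neg z _ h =>
      obtain ⟨t, ht, e1⟩ := h
      refine ⟨-t, neg_mem ht, fun y => ?_⟩
      show -(t.1 y).1 = _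
      rw [e1]
      exact ((LocalizedModule.mkLinearMap _ M).map_neg z).symm
  obtain ⟨t, ht, htv⟩ := this x (hB b hbB e x hx)
  have : t = s := sect_ext fun y => by rw [htv y, hval y]
  rw [this] at ht
  exact ht

end Groth.Agent.GrSerre43

end
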