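import Groth.Agent.EGA73.ProjProper
import Groth.Agent.EGA73.RelTwistPow
import Groth.Agent.EGA73.RelAmpleEmb
import Groth.Agent.EGA73.GenPushFT
import Groth.Agent.Amp73.CounitIff

/-! Twists on a relative Proj eventually make quasi-coherent modules of finite type relatively generated. -/

set_option autoImplicit false
set_option backward.isDefEq.respectTransparency.types false

universe u

open CategoryTheory CategoryTheory.Limits AlgebraicGeometry TopologicalSpace Opposite MonoidalCategory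
open scoped HomogeneousIdeal

noncomputable section

namespace Groth.Agent.GrSerre43

open Groth.Agent Groth.Agent.EGAProj74

/-- `- ⊗ G` only depends on `G` up to isomorphism. -/
def tRCongr {X : Scheme.{u}} {G G' : X.Modules} (e : G ≅ G') :
    Mod48.tR (O := X.sheaf) G ≅ Mod48.tR (O := X.sheaf) G' :=
  Functor.isoWhiskerLeft _ (Functor.isoWhiskerRight
    ((tensoringRight (Mod48.PreM X.sheaf)).mapIso ((Mod48.fgt (O := X.sheaf)).mapIso e)) _)

/-- Tensoring with a module having a tensor inverse is an equivalence. -/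
def tRInv {X : Scheme.{u}} {L L' : X.Modules} (e : CohB1.tensorMod L L' ≅ Coh.structureModule X) :
    Mod48.tR (O := X.sheaf) L ⋙ Mod48.tR (O := X.sheaf) L' ≅ 𝟭 _ :=
  Mod48.tensAssocNat L L' ≪≫ tRCongr e ≪≫ (Mod48.tensSymm (O := X.sheaf) _).symm ≪≫ Mod48.tensUnit

theorem exists_epi_tensor {X : Scheme.{u}} {M N L L' : X.Modules}
    (e : CohB1.tensorMod L L' ≅ Coh.structureModule X) (f : M ⟶ N) [Epi f] :
    ∃ g : CohB1.tensorMod M L ⟶ CohB1.tensorMod N L, Epi g := by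
  have e' : CohB1.tensorMod L' L ≅ Coh.structureModule X := EGA73.tensComm L' L ≪≫ e
  let E := CategoryTheory.Equivalence.mk (Mod48.tR (O := X.sheaf) L) (Mod48.tR (O := X.sheaf) L')
    (tRInv e).symm (tRInv e')
  exact ⟨(Mod48.tR (O := X.sheaf) L).map f, @Functor.map_epi _ _ _ _ E.functor inferInstance _ _ f ‹Epi f›⟩

variable {Y P : Scheme.{u}} {𝒮 : RelProj.QCGrAlg Y} {p : P ⟶ Y}
  {chart : ∀ (U : Y.Opens) (hU : IsAffineOpen U), (((p ⁻¹ᵁ U : P.Opens) : Scheme.{u}) ≅ Proj (𝒮.deg U hU))}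
  (hP : RelProj.IsRelProj 𝒮 p chart) (hgen : 𝒮.IsGenDegOne) (hft : 𝒮.IsFTDeg 1)

include hP hgen hft in
theorem exists_ample_pow [CompactSpace Y] : ∃ O1 : P.Modules, CompactSpace P ∧ QuasiCompact p ∧
    RelAmple.IsRelAmple p O1 ∧ ∀ (m : ℕ) (L : P.Modules)
      (lam : ∀ (U : Y.Opens) (hU : IsAffineOpen U),
        L ⟶ (Scheme.Modules.pushforward (RelProj.emb p chart U hU)).obj (GrTwist.twist (𝒮.deg U hU) (m : ℤ))),
      RelProj.IsRelTwist 𝒮 p chart (m : ℤ) L lam → Nonempty (L ≅ CohB1.tensorPow O1 m) := by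
  have := EGA73.isProper_relProj hgen hft hP
  obtain ⟨O1, lam1, h1⟩ := exists_isRelTwist (hP := hP) ((1 : ℕ) : ℤ)
  have hid : Topology.IsEmbedding (𝟙 P : P ⟶ P).base := (𝟙 P : P ⟶ P).isEmbedding
  have h := EGA73.isRelAmple_pullback_twist_one (p := p) hgen h1 (𝟙 P) hid
  refine ⟨O1, QuasiCompact.compactSpace_of_compactSpace p, inferInstance, ?_, fun m L lam hL => ?_⟩
  · have h' := Amp73.isRelAmple_of_iso ((Scheme.Modules.pullbackId P).app O1) h
    rwa [Category.id_comp] at h'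
  · exact EGA73.RelTwistPow.nonempty_iso_pow hP hgen h1 m L lam hL

include hP hgen hft in
theorem counit_epi_eventually [CompactSpace Y] (F : P.Modules) (hF : Coh.IsCoh F) :
    ∃ n₀ : ℤ, ∀ (n : ℤ), n₀ ≤ n → ∀ (L : P.Modules)
      (lam : ∀ (U : Y.Opens) (hU : IsAffineOpen U),
      L ⟶ (Scheme.Modules.pushforward (RelProj.emb p chart U hU)).obj (GrTwist.twist (𝒮.deg U hU) n)),
      RelProj.IsRelTwist 𝒮 p chart n L lam →
        Epi ((Scheme.Modules.pullbackPushforwardAdjunction p).counit.app (CohB1.tensorMod F L)) := by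
  obtain ⟨O1, hc, hq, hamp, hpow⟩ := exists_ample_pow hP hgen hft
  obtain ⟨N, -, hN⟩ := Amp73.eventually_epi_counit p hamp hF
  refine ⟨N, fun n hn L lam hL => ?_⟩
  obtain ⟨m, rfl⟩ := Int.eq_ofNat_of_zero_le ((Int.natCast_nonneg N).trans hn)
  obtain ⟨e⟩ := hpow m L lam hL
  have := hN m (by exact_mod_cast hn)
  let i : CohB1.tensorMod F (CohB1.tensorPow O1 m) ≅ CohB1.tensorMod F L := EGA73.tensIso (Iso.refl _) e.symm
  have hnat := (Scheme.Modules.pullbackPushforwardAdjunction p).counit.naturality i.hom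
  have : Epi ((Scheme.Modules.pushforward p ⋙ Scheme.Modules.pullback p).map i.hom ≫
      (Scheme.Modules.pullbackPushforwardAdjunction p).counit.app (CohB1.tensorMod F L)) := by
    rw [hnat]; exact epi_comp _ _
  exact epi_of_epi ((Scheme.Modules.pushforward p ⋙ Scheme.Modules.pullback p).map i.hom) _

include hP hgen hft in
theorem quotient_pullback_twist_eventually [CompactSpace Y] [QuasiSeparatedSpace Y]
    (F : P.Modules) (hF : Coh.IsCoh F) :
    ∃ n₀ : ℤ, ∀ (n : ℤ), n₀ ≤ n → ∀ (L : P.Modules)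
      (lam : ∀ (U : Y.Opens) (hU : IsAffineOpen U),
      L ⟶ (Scheme.Modules.pushforward (RelProj.emb p chart U hU)).obj (GrTwist.twist (𝒮.deg U hU) (-n))),
      RelProj.IsRelTwist 𝒮 p chart (-n) L lam →
        ∃ (G : Y.Modules) (π : CohB1.tensorMod ((Scheme.Modules.pullback p).obj G) L ⟶ F),
          Coh.IsQCoh G ∧ CohB1.IsFT G ∧ Epi π := by
  obtain ⟨O1, hc, hq, hamp, hpow⟩ := exists_ample_pow hP hgen hft
  obtain ⟨N, hN⟩ := EGA73.eventually_exists_ft_epi p hamp hF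
  refine ⟨N, fun n hn L lam hL => ?_⟩
  obtain ⟨m, rfl⟩ := Int.eq_ofNat_of_zero_le ((Int.natCast_nonneg N).trans hn)
  obtain ⟨G, φ, hG, hGft, hφ⟩ := hN m (by exact_mod_cast hn)
  obtain ⟨M, lamM, hM⟩ := exists_isRelTwist (hP := hP) (m : ℤ)
  obtain ⟨L0, lam0, h0⟩ := exists_isRelTwist (hP := hP) ((0 : ℕ) : ℤ)
  obtain ⟨eM⟩ := hpow m M lamM hM
  obtain ⟨e0⟩ := hpow 0 L0 lam0 h0
  obtain ⟨eT⟩ := nonempty_tensor_iso hP (isQCoh_selfModule 𝒮) (isRelTilde_of_isRelTwist (hP := hP) hL) hM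
    (isRelTilde_of_isRelTwist (hP := hP) h0) (by simp) hgen
  let eL : CohB1.tensorMod L (CohB1.tensorPow O1 m) ≅ Coh.structureModule P :=
    EGA73.tensIso (Iso.refl _) eM.symm ≪≫ eT ≪≫ e0
  obtain ⟨g, hg⟩ := exists_epi_tensor eL φ
  let i : CohB1.tensorMod (CohB1.tensorMod F (CohB1.tensorPow O1 m)) L ≅ F :=
    EGA73.tensAssoc' _ _ _ ≪≫ EGA73.tensIso (Iso.refl _) (EGA73.tensComm _ _ ≪≫ eL) ≪≫ EGA73.tensUnitRight F
  exact ⟨G, g ≫ i.hom, hG, hGft, epi_comp _ _⟩

end Groth.Agent.GrSerre43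

end
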