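import Groth.Agent.Amp73.ProjGen
import Groth.Agent.GrSerre43.RelGen
import Groth.Agent.LC17.GrAlpha

/-! Coherent modules on `Proj` of a Noetherian graded ring are quotients of sums of twisting modules. -/

set_option autoImplicit false
set_option backward.isDefEq.respectTransparency.types false

universe u

open CategoryTheory CategoryTheory.Limits AlgebraicGeometry Opposite TopologicalSpace GrTilde MonoidalCategory

noncomputable section

namespace Groth.Agent.GrSerre43.ProjGenDeg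

open Groth.Agent Var76.LineBundle Var76.ZeroScheme EGA73 Amp73

variable {R A : Type u} [CommRing R] [CommRing A] [Algebra R A] {𝒜 : ℕ → Submodule R A} [GradedAlgebra 𝒜]

/-- there is a degree whose standard opens cover, finitely -/
theorem exists_cover [IsNoetherianRing A] (𝒜 : ℕ → Submodule R A) [GradedAlgebra 𝒜] :
    ∃ (d : ℕ) (T : Finset A), 0 < d ∧ (∀ f ∈ T, f ∈ 𝒜 d) ∧
      ∀ x : Proj 𝒜, ∃ f ∈ T, x ∈ Proj.basicOpen 𝒜 f := by
  classical
  let S : Set A := {a | ∃ i, 0 < i ∧ a ∈ 𝒜 i}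
  obtain ⟨T, hT, hspan⟩ := (Submodule.fg_span_iff_fg_span_finset_subset S).mp
    (IsNoetherian.noetherian (Submodule.span A S))
  choose e he hmem using fun g : T => hT g.2
  let d : ℕ := ∏ g : T, e g
  have hdvd : ∀ g : T, e g ∣ d := fun g => Finset.dvd_prod_of_mem e (Finset.mem_univ g)
  refine ⟨d, Finset.univ.image fun g : T => (g : A) ^ (d / e g), Finset.prod_pos fun g _ => he g,
    fun f hf => ?_, fun x => ?_⟩
  · obtain ⟨g, -, rfl⟩ := Finset.mem_image.mp hf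
    have := SetLike.pow_mem_graded (d / e g) (hmem g)
    rwa [smul_eq_mul, Nat.div_mul_cancel (hdvd g)] at this
  · obtain ⟨i, hi, a, ha, hax⟩ : ∃ i, 0 < i ∧ ∃ a ∈ 𝒜 i, a ∉ (x : ProjectiveSpectrum 𝒜).asHomogeneousIdeal := by
      by_contra H
      push Not at H
      exact ProjectiveSpectrum.not_irrelevant_le x
        (LC17.GrAlpha.irrelevant_le_of_forall fun i a hi ha => H i hi a ha)
    by_contra H
    push Not at H
    refine hax ((hspan.trans_le (Submodule.span_le.mpr fun g hg => ?_) :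
      Submodule.span A S ≤ (x : ProjectiveSpectrum 𝒜).asHomogeneousIdeal.toIdeal) (Submodule.subset_span ⟨i, hi, ha⟩))
    by_contra hgx
    exact H _ (Finset.mem_image.mpr ⟨⟨g, hg⟩, Finset.mem_univ _, rfl⟩)
      (EGA73.pow_notMem (x := (x : ProjectiveSpectrum 𝒜)) hgx _)

variable (𝒜) in
/-- The section of `O(d)` given by an element of degree `d`. -/
def degHom {d : ℕ} (f : 𝒜 d) : Coh.structureModule (Proj 𝒜) ⟶ Twist.twist 𝒜 (d : ℤ) :=
  Var76.Frames.ofSection (Twist.twist 𝒜 (d : ℤ)) (Twist.globalOf 𝒜 f : Twist.sectN (𝒜 := 𝒜) (d : ℤ) (op ⊤))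

theorem val_degHom {d : ℕ} (f : 𝒜 d) (U : (Proj 𝒜).Opens) (x : U) :
    (((val _ (degHom 𝒜 f) U : Twist.sectN (𝒜 := 𝒜) (d : ℤ) (op U)).1 x).1 : Twist.Loc 𝒜 x.1) =
      Localization.mk (f : A) (1 : x.1.asHomogeneousIdeal.toIdeal.primeCompl) := by
  rw [degHom, Var76.Frames.val_ofSection]
  rfl

theorem isFrame_degHom {d : ℕ} (f : 𝒜 d) :
    IsFrame (Twist.twist 𝒜 (d : ℤ)) (Proj.basicOpen 𝒜 (f : A))
      (val _ (degHom 𝒜 f) (Proj.basicOpen 𝒜 (f : A))) := by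
  let U : Opens (ProjectiveSpectrum.top 𝒜) := ProjectiveSpectrum.basicOpen 𝒜 (f : A)
  let e : TwistUnit (𝒜 := 𝒜) (d : ℤ) U :=
    { fwd := val _ (degHom 𝒜 f) (Proj.basicOpen 𝒜 (f : A))
      bwd := castTwist (by simp) (EGA73.powUnit 𝒜 f.2 (-1)).fwd
      mul_eq := fun x => by
        rw [val_degHom, castTwist_apply]
        show _ * Localization.mk _ _ = 1
        rw [Localization.mk_mul, ← Localization.mk_self (1 : x.1.asHomogeneousIdeal.toIdeal.primeCompl),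
          Localization.mk_eq_mk_iff, Localization.r_iff_exists]
        exact ⟨1, by simp⟩ }
  exact fun V hV => smul_unit_bijective (e.res hV)

variable {d : ℕ} (hd : 0 < d) (T : Finset A) (hT : ∀ f ∈ T, f ∈ 𝒜 d)
  (hcov : ∀ x : Proj 𝒜, ∃ f ∈ T, x ∈ Proj.basicOpen 𝒜 f)

include hT hcov in
theorem exists_unit (n : ℤ) (x : ProjectiveSpectrum.top 𝒜) :
    ∃ U : Opens (ProjectiveSpectrum.top 𝒜), x ∈ U ∧ Nonempty (TwistUnit (𝒜 := 𝒜) (n * d) U) := by
  obtain ⟨f, hf, hx⟩ := hcov x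
  exact ⟨ProjectiveSpectrum.basicOpen 𝒜 f, hx, ⟨powUnit 𝒜 (hT f hf) n⟩⟩

include hT hcov in
theorem isInvertible (n : ℤ) : PicF.IsInvertible (Twist.twist 𝒜 (n * d)) := fun x => by
  obtain ⟨U, hxU, ⟨e⟩⟩ := exists_unit T hT hcov n x
  exact ⟨U, hxU, nonempty_twist_restrict_iso e⟩

include hd hT hcov in
theorem compactSpace : CompactSpace (Proj 𝒜) := by
  refine isCompact_univ_iff.1 ?_
  have e : (Set.univ : Set (Proj 𝒜)) = ⋃ g ∈ T, (Proj.basicOpen 𝒜 g : Set (Proj 𝒜)) := by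
    refine (Set.eq_univ_of_forall fun x => ?_).symm
    obtain ⟨g, hg, hx⟩ := hcov x
    exact Set.mem_iUnion₂.2 ⟨g, hg, hx⟩
  rw [e]
  exact T.isCompact_biUnion fun g hg => (Proj.isAffineOpen_basicOpen 𝒜 g (hT g hg) hd).isCompact

include hT hcov in
theorem genLocus_degHom (f : 𝒜 d) :
    CohB1.genLocus _ (degHom 𝒜 f) = Proj.basicOpen 𝒜 (f : A) := by
  refine le_antisymm (fun x hx => ?_) ((isFrame_iff_le_genLocus _ _).1 (isFrame_degHom f))
  obtain ⟨g, hg, hxg⟩ := hcov x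
  let V : (Proj 𝒜).Opens := CohB1.genLocus _ (degHom 𝒜 f) ⊓ Proj.basicOpen 𝒜 g
  have hxV : x ∈ V := ⟨hx, hxg⟩
  obtain ⟨c, hc⟩ := ((isFrame_iff_le_genLocus _ V).2 inf_le_left V le_rfl).2
    (val _ (degHom 𝒜 ⟨g, hT g hg⟩) V)
  dsimp only at hc
  rw [res_self] at hc
  have h : (((c : Twist.O (𝒜 := 𝒜) (op V)).1 ⟨x, hxV⟩).val : Twist.Loc 𝒜 x) *
      Localization.mk (f : A) (1 : (x : ProjectiveSpectrum 𝒜).asHomogeneousIdeal.toIdeal.primeCompl) =
      Localization.mk g (1 : (x : ProjectiveSpectrum 𝒜).asHomogeneousIdeal.toIdeal.primeCompl) := by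
    have h1 := congrArg (fun q : Twist.sectN (𝒜 := 𝒜) (d : ℤ) (op V) => ((q.1 ⟨x, hxV⟩).1 : Twist.Loc 𝒜 x)) hc
    dsimp only at h1
    rw [val_degHom] at h1
    rw [← h1, ← val_degHom f V ⟨x, hxV⟩]
    rfl
  by_contra hfx
  have hf : (f : A) ∈ (x : ProjectiveSpectrum 𝒜).asHomogeneousIdeal.toIdeal := not_not.1 hfx
  have key : ∀ a : A, Localization.mk a (1 : (x : ProjectiveSpectrum 𝒜).asHomogeneousIdeal.toIdeal.primeCompl) =
      algebraMap A (Twist.Loc 𝒜 x) a := fun a => (Localization.mk_one_eq_algebraMap a)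
  rw [key, key] at h
  have hg' : algebraMap A (Twist.Loc 𝒜 x) g ∈ IsLocalRing.maximalIdeal (Twist.Loc 𝒜 x) :=
    h ▸ Ideal.mul_mem_left _ _ ((IsLocalization.AtPrime.to_map_mem_maximal_iff _
      (x : ProjectiveSpectrum 𝒜).asHomogeneousIdeal.toIdeal _).2 hf)
  exact hxg ((IsLocalization.AtPrime.to_map_mem_maximal_iff _
    (x : ProjectiveSpectrum 𝒜).asHomogeneousIdeal.toIdeal _).1 hg')

include hd hT hcov in
theorem isAmple : CohB1.IsAmple (Twist.twist 𝒜 (d : ℤ)) := by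
  have hinv := isInvertible T hT hcov 1
  rw [one_mul] at hinv
  refine Amp73.isAmple_iff.2 ⟨hinv, compactSpace hd T hT hcov, fun x => ?_⟩
  obtain ⟨g, hg, hxg⟩ := hcov x
  refine ⟨_, mem_genSet_one (degHom 𝒜 ⟨g, hT g hg⟩), ?_, ?_⟩ <;> rw [genLocus_degHom T hT hcov]
  · exact hxg
  · exact Proj.isAffineOpen_basicOpen 𝒜 g (hT g hg) hd

include hT hcov in
theorem nonempty_tensor_iso (m : ℤ) (n : ℤ) :
    Nonempty (CohB1.tensorMod (Twist.twist 𝒜 m) (Twist.twist 𝒜 (n * d)) ≅ Twist.twist 𝒜 (m + n * d)) :=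
  ⟨tensIso (twistIsoTilde 𝒜 m) (Iso.refl _) ≪≫ mulIso m (n * d) (exists_unit T hT hcov n) ≪≫
    (twistIsoTilde 𝒜 (m + n * d)).symm⟩

include hT hcov in
theorem nonempty_pow_iso : ∀ n : ℕ,
    Nonempty (Twist.twist 𝒜 ((n : ℤ) * d) ≅ CohB1.tensorPow (Twist.twist 𝒜 (d : ℤ)) n)
  | 0 => by
    obtain ⟨z⟩ := EGA73.nonempty_twist_zero_iso (𝒜 := 𝒜)
    exact ⟨eqToIso (by simp) ≪≫ z⟩
  | n + 1 => by
    obtain ⟨i⟩ := nonempty_pow_iso n
    obtain ⟨j⟩ := nonempty_tensor_iso T hT hcov ((n : ℤ) * d) 1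
    exact ⟨eqToIso (by push_cast; rw [one_mul, add_mul, one_mul]) ≪≫ j.symm ≪≫ tensIso i (eqToIso (by rw [one_mul]))⟩

theorem exists_epi_twists [IsNoetherianRing A] (F : (Proj 𝒜).Modules) (hF : Coh.IsCoh F) :
    ∃ (r : ℕ) (e : Fin r → ℤ) (φ : (∐ fun j : Fin r => Twist.twist 𝒜 (e j)) ⟶ F), Epi φ := by
  obtain ⟨d, T, hd, hT, hcov⟩ := exists_cover 𝒜
  have := compactSpace hd T hT hcov
  obtain ⟨m, hm⟩ := eventually_spanAt_twist (isAmple hd T hT hcov) hF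
  obtain ⟨ip⟩ := nonempty_pow_iso T hT hcov m
  let L := CohB1.tensorPow (Twist.twist 𝒜 (d : ℤ)) m
  let N := Twist.twist 𝒜 ((-(m : ℤ)) * d)
  have hGcoh : Coh.IsCoh (CohB1.tensorMod F L) := by
    have h := isInvertible T hT hcov 1
    rw [one_mul] at h
    exact Amp73.isCoh_tensorMod hF (Amp73.isCoh_of_isInvertible (EGA73.isInvertible_tensorPow h m))
  obtain ⟨k, p, hp⟩ := exists_epi_freeMod hGcoh.1 hGcoh.2 (hm m le_rfl)
  obtain ⟨j⟩ := nonempty_tensor_iso T hT hcov ((m : ℤ) * d) (-(m : ℤ))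
  obtain ⟨z⟩ := EGA73.nonempty_twist_zero_iso (𝒜 := 𝒜)
  let eL : CohB1.tensorMod L N ≅ Coh.structureModule (Proj 𝒜) :=
    tensIso ip.symm (Iso.refl _) ≪≫ j ≪≫ eqToIso (by rw [neg_mul, add_neg_cancel]) ≪≫ z
  let E := CategoryTheory.Equivalence.mk (Mod48.tR (O := (Proj 𝒜).sheaf) N) (Mod48.tR (O := (Proj 𝒜).sheaf) L)
    (tRInv (EGA73.tensComm N L ≪≫ eL)).symm (tRInv eL)
  let Φ : CohB1.tensorMod (CohB1.tensorMod F L) N ≅ F :=
    EGA73.tensAssoc' F _ _ ≪≫ EGA73.tensIso (Iso.refl F) eL ≪≫ EGA73.tensUnitRight F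
  have : Epi ((Mod48.tR (O := (Proj 𝒜).sheaf) N).map p) :=
    @Functor.map_epi _ _ _ _ E.functor inferInstance _ _ p hp
  let c : (∐ fun _ : Fin k => Twist.twist 𝒜 ((-(m : ℤ)) * d)) ≅
      (Mod48.tR (O := (Proj 𝒜).sheaf) N).obj (FlatMod.freeMod (Proj 𝒜) k) :=
    Sigma.mapIso (fun _ => (EGA73.tensUnitLeft N).symm) ≪≫
      (PreservesCoproduct.iso E.functor fun _ : Fin k => Coh.structureModule (Proj 𝒜)).symm
  refine ⟨k, fun _ => (-(m : ℤ)) * d, c.hom ≫ ((Mod48.tR (O := (Proj 𝒜).sheaf) N).map p ≫ Φ.hom), ?_⟩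
  exact @epi_comp _ _ _ _ _ c.hom inferInstance _ (@epi_comp _ _ _ _ _ _ this Φ.hom inferInstance)

end Groth.Agent.GrSerre43.ProjGenDeg

end
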