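import Groth.Agent.GrSerre43.ProjGenDeg
import Groth.Agent.EGA73.TildeFinite
import Groth.Agent.RB70.AmpleVanish

/-! Serre vanishing on `Proj` of a Noetherian graded ring. -/

set_option autoImplicit false
set_option backward.isDefEq.respectTransparency.types false

universe u

open CategoryTheory CategoryTheory.Limits AlgebraicGeometry TopologicalSpace Opposite GrTilde
open scoped HomogeneousIdeal

noncomputable section

namespace Groth.Agent.GrSerre43.ProjVan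

open Groth.Agent Groth.Agent.EGA73

section Ring

variable {R A : Type u} [CommRing R] [CommRing A] [Algebra R A] {𝒜 : ℕ → Submodule R A} [GradedAlgebra 𝒜]
  {M : Type u} [AddCommGroup M] [Module R M] [Module A M] [IsScalarTower R A M] {ℳ : ℕ → Submodule R M}
  [SetLike.GradedSMul 𝒜 ℳ] [DirectSum.Decomposition ℳ]

/-- the component of a product with a homogeneous element -/
lemma decompose_smul_of_mem {b e : ℕ} {z : M} (hz : z ∈ ℳ b) (c : A) :
    (DirectSum.decompose ℳ (c • z) (e + b) : M) = (DirectSum.decompose 𝒜 c e : A) • z := by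
  classical
  conv_lhs => rw [← DirectSum.sum_support_decompose 𝒜 c, Finset.sum_smul]
  rw [DirectSum.decompose_sum, DFinsupp.finsetSum_apply, AddSubmonoidClass.coe_finsetSum,
    Finset.sum_eq_single e]
  · exact DirectSum.decompose_of_mem_same ℳ (gsmul_mem 𝒜 ℳ (SetLike.coe_mem _) hz)
  · intro i _ hi
    exact DirectSum.decompose_of_mem_ne ℳ (gsmul_mem 𝒜 ℳ (SetLike.coe_mem _) hz) (by omega)
  · intro hi
    simp only [DFinsupp.notMem_support_iff] at hi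
    simp [hi]

theorem finite_sections_of_gens {d : ℕ} (hd : 0 < d) {f : A} (hf : f ∈ 𝒜 d) (n : ℤ)
    {ι : Type} [Fintype ι] (g : ι → M) (q : ι → ℕ)
    (hg : ∀ j, ∃ b, g j ∈ ℳ b ∧ (b : ℤ) = q j * d + n)
    (h : ∃ K : ℕ, ∀ k i : ℕ, K ≤ k → (i : ℤ) = k * d + n → ∀ m ∈ ℳ i, m ∈ Submodule.span A (Set.range g)) :
    Module.Finite Γ(Proj 𝒜, Proj.basicOpen 𝒜 f) Γ(GrTilde.tilde 𝒜 ℳ n, Proj.basicOpen 𝒜 f) := by
  classical
  obtain ⟨K, hK⟩ := h
  choose b hgb hb using hg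
  have hfj : ∀ j : ℕ, f ^ j ∈ 𝒜 (j * d) := fun j => by simpa using SetLike.pow_mem_graded j hf
  let σj : ι → Γ(GrTilde.tilde 𝒜 ℳ n, Proj.basicOpen 𝒜 f) := fun j =>
    fracSect (U := ProjectiveSpectrum.basicOpen 𝒜 f) (hgb j) (hfj (q j)) (fun x => pow_notMem x.2 _)
      (by rw [hb j]; push_cast; ring)
  refine ⟨⟨Finset.univ.image σj, top_le_iff.mp fun s _ => ?_⟩⟩
  rw [Finset.coe_image, Finset.coe_univ, Set.image_univ]
  obtain ⟨k, i, m, hm, hi, hs⟩ := EGA73.exists_frac_eq hd hf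
    (s : sect 𝒜 ℳ n (op (ProjectiveSpectrum.basicOpen 𝒜 f)))
  obtain ⟨J, hJK, hJq⟩ : ∃ J, K ≤ J ∧ ∀ j, q j ≤ J :=
    ⟨K + Finset.univ.sup q, by omega, fun j => (Finset.le_sup (Finset.mem_univ j)).trans (Nat.le_add_left _ _)⟩
  have hmJ : f ^ J • m ∈ ℳ (J * d + i) := gsmul_mem 𝒜 ℳ (hfj J) hm
  obtain ⟨c, hc⟩ := (Submodule.mem_span_range_iff_exists_fun _).mp
    (hK (J + k) (J * d + i) (by omega) (by push_cast; rw [hi]; ring) _ hmJ)
  let e : ι → ℕ := fun j => (J + k - q j) * d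
  have hdeg : ∀ j, J * d + i = e j + b j := fun j => by
    have h1 : ((J + k - q j : ℕ) : ℤ) = J + k - q j := by rw [Nat.cast_sub (by have := hJq j; omega)]; push_cast; ring
    have : ((J * d + i : ℕ) : ℤ) = ((e j + b j : ℕ) : ℤ) := by
      simp only [e, Nat.cast_add, Nat.cast_mul, h1, hi, hb j]
      ring
    exact_mod_cast this
  let c' : ι → A := fun j => DirectSum.decompose 𝒜 (c j) (e j)
  have hmeq : f ^ J • m = ∑ j, c' j • g j := by
    rw [← DirectSum.decompose_of_mem_same ℳ hmJ, ← hc, DirectSum.decompose_sum, DFinsupp.finsetSum_apply,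
      AddSubmonoidClass.coe_finsetSum]
    refine Finset.sum_congr rfl fun j _ => ?_
    rw [hdeg j]
    exact decompose_smul_of_mem (hgb j) (c j)
  let a : ι → Γ(Proj 𝒜, Proj.basicOpen 𝒜 f) := fun j => Proj.awayToSection 𝒜 f (HomogeneousLocalization.mk
    ⟨e j, ⟨c' j, SetLike.coe_mem _⟩, ⟨f ^ (J + k - q j), hfj _⟩, ⟨_, rfl⟩⟩)
  have hsum : s = ∑ j, a j • σj j := by
    refine EGA73.sect_ext fun x => ?_
    let ev : sect 𝒜 ℳ n (op (ProjectiveSpectrum.basicOpen 𝒜 f)) →+ LocMod 𝒜 (M := M) x.1 :=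
      AddMonoidHom.mk' (fun t => (t.1 x).1) fun _ _ => rfl
    change ev s = ev (∑ j, a j • σj j)
    rw [map_sum]
    have hterm : ∀ j, ev (a j • σj j) = frac x.1 (c' j • g j) (f ^ (J + k)) (pow_notMem x.2 _) := fun j => by
      show (a0Frac x.1 (SetLike.coe_mem (DirectSum.decompose 𝒜 (c j) (e j))) (hfj (J + k - q j))
          (pow_notMem x.2 _)) • frac x.1 (g j) (f ^ q j) (pow_notMem x.2 _) = _
      rw [a0_smul_def, a0Frac, HomogeneousLocalization.val_mk]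
      refine (LocalizedModule.mk_smul_mk _ _ _ _).trans (frac_congr ?_)
      rw [← pow_add, Nat.sub_add_cancel (by have := hJq j; omega)]
    simp only [hterm]
    rw [show ev s = _ from hs x]
    have hfr : frac x.1 m (f ^ k) (pow_notMem x.2 k) = frac x.1 (f ^ J • m) (f ^ (J + k)) (pow_notMem x.2 _) :=
      frac_congr (by rw [smul_smul, pow_add, mul_comm])
    let num : M →+ LocMod 𝒜 (M := M) x.1 :=
      AddMonoidHom.mk' (fun z => frac x.1 z (f ^ (J + k)) (pow_notMem x.2 _)) fun y z => by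
        simp only [frac]
        rw [LocalizedModule.mk_add_mk]
        refine frac_congr ?_
        simp [Submonoid.smul_def, smul_add, smul_smul]
    rw [hfr, hmeq]
    exact map_sum num _ _
  rw [hsum]
  exact Submodule.sum_mem _ fun j _ => Submodule.smul_mem _ _ (Submodule.subset_span ⟨j, rfl⟩)

theorem finite_sections_of_fg {d : ℕ} (hd : 0 < d) {f : A} (hf : f ∈ 𝒜 d) (n : ℤ) (S : Set M)
    (hS : ∀ m ∈ S, ∃ b q : ℕ, m ∈ ℳ b ∧ (b : ℤ) = q * d + n) (hfg : (Submodule.span A S).FG)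
    (h : ∃ K : ℕ, ∀ k i : ℕ, K ≤ k → (i : ℤ) = k * d + n → ∀ m ∈ ℳ i, m ∈ S) :
    Module.Finite Γ(Proj 𝒜, Proj.basicOpen 𝒜 f) Γ(GrTilde.tilde 𝒜 ℳ n, Proj.basicOpen 𝒜 f) := by
  classical
  obtain ⟨T, hT, hspan⟩ := (Submodule.fg_span_iff_fg_span_finset_subset _).mp hfg
  obtain ⟨N, e⟩ : ∃ N, N = T.card := ⟨_, rfl⟩
  let g : Fin N → M := fun j => (T.equivFin.symm (Fin.cast e j) : M)
  have hgT : Set.range g = (T : Set M) := by
    subst e
    ext m
    simp only [g, Fin.cast_eq_self, Set.mem_range]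
    exact ⟨fun ⟨j, hj⟩ => hj ▸ (T.equivFin.symm j).2, fun hm => ⟨T.equivFin ⟨m, hm⟩, by simp⟩⟩
  have hg : ∀ j, ∃ b q : ℕ, g j ∈ ℳ b ∧ (b : ℤ) = q * d + n := fun j =>
    hS _ (hT (hgT.subset ⟨j, rfl⟩))
  choose b q hgb hb using hg
  obtain ⟨K, hK⟩ := h
  refine finite_sections_of_gens hd hf n g q (fun j => ⟨b j, hgb j, hb j⟩)
    ⟨K, fun k i hk hi m hm => ?_⟩
  rw [hgT, ← hspan]
  exact Submodule.subset_span (hK k i hk hi m hm)

end Ring


variable {R A : Type u} [CommRing R] [CommRing A] [Algebra R A] {𝒜 : ℕ → Submodule R A} [GradedAlgebra 𝒜]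

theorem isCoh_twist [IsNoetherianRing A] (n : ℤ) : Coh.IsCoh (Twist.twist 𝒜 n) := by
  obtain ⟨d, T, hd, hT, hcov⟩ := ProjGenDeg.exists_cover 𝒜
  have hq := EGA73.isQCoh_tilde 𝒜 𝒜 n
  have : (GrTilde.tilde 𝒜 𝒜 n).IsQuasicoherent := hq
  have hft : (GrTilde.tilde 𝒜 𝒜 n).IsFiniteType := by
    refine QC70.isFiniteType_of_finite_sections _ (fun f : T => Proj.basicOpen 𝒜 (f : A))
      (IsOpenCover.mk (top_le_iff.mp fun x _ => ?_))
      (fun f => Proj.isAffineOpen_basicOpen 𝒜 _ (hT _ f.2) hd) fun f => ?_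
    · obtain ⟨f, hf, hx⟩ := hcov x
      exact Opens.mem_iSup.mpr ⟨⟨f, hf⟩, hx⟩
    · exact finite_sections_of_fg hd (hT _ f.2) n
        {m | ∃ b q : ℕ, m ∈ 𝒜 b ∧ (b : ℤ) = q * d + n} (fun m hm => hm) (IsNoetherian.noetherian _)
        ⟨0, fun k i _ hi m hm => ⟨i, k, hm, hi⟩⟩
  exact ⟨EGA73.isQCoh_twist 𝒜 n,
    QC70.isFiniteType_of_iso (EGA73.twistIsoTilde 𝒜 n).symm⟩

theorem isProper_toSpecZero [IsNoetherianRing A] : IsProper (Proj.toSpecZero 𝒜) := by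
  have : Algebra.FiniteType (𝒜 0) A := EGA73.irrelevant_fg_iff_finiteType.1 (IsNoetherian.noetherian _)
  infer_instance

theorem serre_vanishing [IsNoetherianRing A] (F : (Proj 𝒜).Modules) (hF : Coh.IsCoh F)
    (p : ℕ) (hp : 0 < p) :
    ∃ d₀ : ℤ, ∀ D : ℤ, d₀ ≤ D → Subsingleton (Coh.HH (Proj 𝒜) (Twist.twistBy 𝒜 F D) p) := by
  classical
  obtain ⟨d, T, hd, hT, hcov⟩ := ProjGenDeg.exists_cover 𝒜
  have : IsNoetherianRing (𝒜 0) :=
    isNoetherianRing_of_surjective A (𝒜 0) (GradedRing.projZeroRingHom' 𝒜) (GradedRing.projZeroRingHom'_surjective 𝒜)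
  have := isProper_toSpecZero (𝒜 := 𝒜)
  have hA := ProjGenDeg.isAmple hd T hT hcov
  choose q₀ hq₀ using fun r : ℕ => RB70.exists_vanishing_ample
    (A := (𝒜 0 : Type u)) (Proj.toSpecZero 𝒜) hA (CohB1.tensorMod F (Twist.twist 𝒜 (r : ℤ)))
    (Amp73.isCoh_tensorMod hF (isCoh_twist (r : ℤ)))
  let q : ℕ := (Finset.range d).sup q₀
  refine ⟨((q + 1) * d : ℕ), fun D hD => ?_⟩
  obtain ⟨N, rfl⟩ := Int.eq_ofNat_of_zero_le ((Int.natCast_nonneg _).trans hD)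
  have hN : (q + 1) * d ≤ N := by exact_mod_cast hD
  have hr : N % d < d := Nat.mod_lt _ hd
  have hq : q₀ (N % d) ≤ N / d :=
    (Finset.le_sup (f := q₀) (Finset.mem_range.mpr hr)).trans
      ((Nat.le_succ q).trans ((Nat.le_div_iff_mul_le hd).mpr hN))
  obtain ⟨ip⟩ := ProjGenDeg.nonempty_pow_iso T hT hcov (N / d)
  obtain ⟨j⟩ := ProjGenDeg.nonempty_tensor_iso T hT hcov ((N % d : ℕ) : ℤ) ((N / d : ℕ) : ℤ)
  have hsum : ((N % d : ℕ) : ℤ) + ((N / d : ℕ) : ℤ) * (d : ℤ) = (N : ℤ) := by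
    exact_mod_cast Nat.mod_add_div' N d
  let i : CohB1.tensorMod (CohB1.tensorMod F (Twist.twist 𝒜 ((N % d : ℕ) : ℤ)))
      (CohB1.tensorPow (Twist.twist 𝒜 (d : ℤ)) (N / d)) ≅ Twist.twistBy 𝒜 F (N : ℤ) :=
    EGA73.tensAssoc' _ _ _ ≪≫ EGA73.tensIso (Iso.refl F)
      (EGA73.tensIso (Iso.refl _) ip.symm ≪≫ j ≪≫ eqToIso (by rw [hsum]))
  exact ValVan29.subsingleton_hh_of_iso i p (hq₀ (N % d) (N / d) hq p hp)

end Groth.Agent.GrSerre43.ProjVan

end
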