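import Groth.Agent.GrSerre43.ZeroTilde
import Groth.Agent.GrSerre43.Eventual

/-! The bound in Serre's theorem is uniform over a Noetherian base. -/

set_option autoImplicit false
set_option backward.isDefEq.respectTransparency.types false

universe u

open CategoryTheory CategoryTheory.Limits AlgebraicGeometry TopologicalSpace Opposite GrMod
open scoped HomogeneousIdeal

noncomputable section

namespace Groth.Agent.GrSerre43

open Groth.Agent.EGAProj74 Groth.Agent.EGAProj74.GrT Groth.Agent.LC17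

variable {Y : Scheme.{u}} {𝒮 : RelProj.QCGrAlg Y} {ℳ : RelProj.GrModule 𝒮}

lemma isNoetherianRing_sections [IsLocallyNoetherian Y]
    (hft : ∀ (U : Y.Opens) (hU : IsAffineOpen U), (𝒮.str.app (op U)).hom.FiniteType)
    (U : Y.Opens) (hU : IsAffineOpen U) : IsNoetherianRing (𝒮.presheaf.obj (op U)) := by
  have := IsLocallyNoetherian.component_noetherian (X := Y) ⟨U, hU⟩
  let : Algebra Γ(Y, U) (𝒮.presheaf.obj (op U)) := (𝒮.str.app (op U)).hom.toAlgebra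
  have : Algebra.FiniteType Γ(Y, U) (𝒮.presheaf.obj (op U)) := hft U hU
  exact Algebra.FiniteType.isNoetherianRing Γ(Y, U) _

lemma res_smul {U V : Y.Opens} (hU : IsAffineOpen U) (hV : IsAffineOpen V) (i : V ≤ U)
    (a : 𝒮.presheaf.obj (op U)) (m : ℳ.mod.val.obj (op U)) :
    ℳ.res hU hV i (a • m) = 𝒮.res hU hV i a • ℳ.res hU hV i m :=
  (ℳ.res hU hV i).map_smulₛₗ a m

section Transfer

variable {U E : Y.Opens} (hU : IsAffineOpen U) (hE : IsAffineOpen E) (i : E ≤ U) {r : Γ(Y, U)}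
  (e : E = Y.basicOpen r) (hℳ : Coh.IsQCoh ((AMod.toOS 𝒮.toQCAlg).obj ℳ.mod))

include e hℳ in
/-- the high degree submodule over a basic open is a localization -/
lemma high_res {k : ℕ} {y' : ℳ.mod.val.obj (op E)}
    (hy : y' ∈ high (𝒮.presheaf.obj (op E)) (ℳ.deg E hE) k) :
    ∃ (l : ℕ), ∃ y ∈ high (𝒮.presheaf.obj (op U)) (ℳ.deg U hU) k,
      ℳ.res hU hE i y = (𝒮.res hU hE i ((𝒮.str.app (op U)).hom r)) ^ l • y' := by
  induction hy using Submodule.span_induction with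
  | mem y' hy' =>
    obtain ⟨j, hj, hyj⟩ := Set.mem_iUnion₂.mp hy'
    obtain ⟨l, m, hm, h⟩ := exists_deg_res_mod hU hE i e ℳ hℳ hyj
    exact ⟨l, m, mem_high hj hm, h⟩
  | zero => exact ⟨0, 0, zero_mem _, by simp; rfl⟩
  | add y₁ y₂ _ _ h₁ h₂ =>
    obtain ⟨l₁, a, ha, e₁⟩ := h₁
    obtain ⟨l₂, b, hb, e₂⟩ := h₂
    refine ⟨l₁ + l₂, ((𝒮.str.app (op U)).hom r) ^ l₂ • a + ((𝒮.str.app (op U)).hom r) ^ l₁ • b,
      add_mem (Submodule.smul_mem _ _ ha) (Submodule.smul_mem _ _ hb), ?_⟩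
    rw [map_add, res_smul, res_smul, e₁, e₂, map_pow, map_pow, smul_add,
      smul_smul, smul_smul, ← pow_add, ← pow_add, add_comm l₂]
  | smul a y _ h =>
    obtain ⟨l, b, hb, e₁⟩ := h
    let := (𝒮.presheaf.map (homOfLE i).op).hom.toAlgebra
    have := isLocalization_res 𝒮 hU i e
    obtain ⟨j, c, hc⟩ := IsLocalization.Away.surj ((𝒮.str.app (op U)).hom r) a
    refine ⟨j + l, c • b, Submodule.smul_mem _ _ hb, ?_⟩
    rw [res_smul, e₁]
    change (𝒮.presheaf.map (homOfLE i).op).hom c • _ = _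
    rw [show (𝒮.presheaf.map (homOfLE i).op).hom c = a * (algebraMap _ _ ((𝒮.str.app (op U)).hom r)) ^ j from
      hc.symm, smul_smul, smul_smul, pow_add]
    congr 1
    change a * _ * _ = _
    rw [RingHom.algebraMap_toAlgebra]
    ring_nf
    rfl

variable [hA : IsNoetherianRing (𝒮.presheaf.obj (op U))]

include e hℳ in
/-- `Good` passes to basic opens, with the same bound. -/
lemma good_res {N k d : ℕ} {f : 𝒮.presheaf.obj (op U)}
    (G : Good (𝒮.deg U hU) (ℳ.deg U hU) N k d f) :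
    Good (𝒮.deg E hE) (ℳ.deg E hE) N k d (𝒮.res hU hE i f) := by
  classical
  set c := (𝒮.str.app (op U)).hom r with hc
  have hu : IsUnit (𝒮.res hU hE i c) := isUnit_res_str 𝒮 hU i e
  have hlift : ∀ n, ∀ x ∈ ℳ.deg E hE n, ∃ (l : ℕ), ∃ m ∈ ℳ.deg U hU n,
      ℳ.res hU hE i m = (𝒮.res hU hE i c) ^ l • x := fun n x hx => by
    obtain ⟨l, m, hm, h⟩ := exists_deg_res_mod hU hE i e ℳ hℳ hx
    exact ⟨l, m, hm, h⟩
  have hker : ∀ m, ℳ.res hU hE i m = 0 → ∃ j : ℕ, c ^ j • m = 0 := fun m hm =>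
    exists_pow_smul_eq_zero_res hU i e ℳ hℳ hm
  have hdeg : ∀ (j n : ℕ), ∀ m ∈ ℳ.deg U hU n, c ^ j • m ∈ ℳ.deg U hU n := fun j n m hm => by
    simpa using gsmul_mem (𝒮.deg U hU) (ℳ.deg U hU) (SetLike.pow_mem_graded j (𝒮.str_mem U hU r)) hm
  have hirrK : ∀ (K : ℕ) (a : 𝒮.presheaf.obj (op U)), a ∈ irr (𝒮.deg U hU) ^ K →
      𝒮.res hU hE i a ∈ irr (𝒮.deg E hE) ^ K := by
    intro K a ha
    have hle : (irr (𝒮.deg U hU)).map (𝒮.res hU hE i) ≤ irr (𝒮.deg E hE) := by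
      refine Ideal.map_le_iff_le_comap.mpr (GrAlpha.irrelevant_le_of_forall fun j g hj hg => ?_)
      exact HomogeneousIdeal.mem_irrelevant_of_mem _ hj (𝒮.map_mem hU hE i hg)
    have := Ideal.mem_map_of_mem (𝒮.res hU hE i) ha
    rw [Ideal.map_pow] at this
    exact Ideal.pow_right_mono hle K this
  obtain ⟨-, -, hgens⟩ : True ∧ True ∧ ∀ K, (irr (𝒮.deg U hU) ^ K).FG :=
    ⟨trivial, trivial, fun K => IsNoetherian.noetherian _⟩
  refine ⟨G.le, G.pos, 𝒮.map_mem hU hE i G.mem, fun n hn x hx h => ?_, fun n hn x hx h => ?_,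
    fun n hn x hx h => ?_⟩
  · obtain ⟨l, m, hm, hlm⟩ := hlift n x hx
    obtain ⟨j, hj⟩ := hker (f • m) (by
      rw [res_smul, hlm, smul_comm]; exact (congrArg _ h).trans (smul_zero _))
    rw [smul_comm] at hj
    have h1 := G.reg n hn _ (hdeg j n m hm) hj
    have h2 := congrArg (ℳ.res hU hE i) h1
    rw [map_zero, res_smul, map_pow, hlm, smul_smul, ← pow_add] at h2
    exact (IsUnit.smul_eq_zero (hu.pow _)).mp h2
  · obtain ⟨K, hK⟩ := h
    obtain ⟨l, m, hm, hlm⟩ := hlift n x hx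
    obtain ⟨T, hT⟩ := hgens K
    have : ∀ a : T, ∃ j : ℕ, c ^ j • ((a : 𝒮.presheaf.obj (op U)) • m) = 0 := fun a => hker _ (by
      rw [res_smul, hlm, smul_comm]
      exact (congrArg _ (hK _ (hirrK K _ (hT ▸ Ideal.subset_span a.2)))).trans (smul_zero _))
    choose j hj using this
    have h1 := G.tors n hn _ (hdeg (Finset.univ.sup j) n m hm) ⟨K, fun a ha => by
      rw [← hT] at ha
      induction ha using Submodule.span_induction with
      | mem a ha =>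
        obtain ⟨s, hs⟩ := Nat.exists_eq_add_of_le (Finset.le_sup (f := j) (Finset.mem_univ (⟨a, ha⟩ : T)))
        rw [hs, smul_comm, pow_add, mul_comm (c ^ _), mul_smul, hj ⟨a, ha⟩, smul_zero]
      | zero => simp
      | add a b _ _ h h' => rw [add_smul, h, h', add_zero]
      | smul b a _ h => rw [smul_eq_mul, mul_smul, h, smul_zero]⟩
    have h2 := congrArg (ℳ.res hU hE i) h1
    rw [map_zero, res_smul, map_pow, hlm, smul_smul, ← pow_add] at h2
    exact (IsUnit.smul_eq_zero (hu.pow _)).mp h2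
  · obtain ⟨K, hK⟩ := h
    obtain ⟨l, m, hm, hlm⟩ := hlift n x hx
    obtain ⟨T, hT⟩ := hgens K
    have : ∀ a : T, ∃ j : ℕ, ∃ y ∈ high (𝒮.presheaf.obj (op U)) (ℳ.deg U hU) k,
        c ^ j • ((a : 𝒮.presheaf.obj (op U)) • m) = f • y := fun a => by
      obtain ⟨y', hy', hxy⟩ := hK _ (hirrK K _ (hT ▸ Ideal.subset_span a.2))
      obtain ⟨q, y, hy, hyq⟩ := high_res hU hE i e hℳ hy'
      obtain ⟨j, hj⟩ := hker (c ^ q • ((a : 𝒮.presheaf.obj (op U)) • m) - c ^ l • (f • y)) (by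
        rw [map_sub, res_smul, res_smul, res_smul,
          res_smul, hlm, hyq, map_pow, map_pow, sub_eq_zero]
        rw [smul_comm (𝒮.res hU hE i (a : 𝒮.presheaf.obj (op U))) ((𝒮.res hU hE i c) ^ l) x]
        change _ ^ q • _ ^ l • (𝒮.res hU hE i (a : 𝒮.presheaf.obj (op U)) • x) = _
        rw [hxy]
        simp only [smul_smul]
        congr 1
        simp only [hc]
        ring)
      refine ⟨j + q, c ^ (j + l) • y, Submodule.smul_mem _ _ hy, ?_⟩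
      rw [smul_sub, sub_eq_zero] at hj
      rw [pow_add, mul_smul, hj, pow_add, mul_smul, smul_comm f, smul_comm f]
    choose j y hy hj using this
    obtain ⟨z, hz, hmz⟩ := G.sat n hn _ (hdeg (Finset.univ.sup j) n m hm) ⟨K, fun a ha => by
      rw [← hT] at ha
      induction ha using Submodule.span_induction with
      | mem a ha =>
        obtain ⟨s, hs⟩ := Nat.exists_eq_add_of_le (Finset.le_sup (f := j) (Finset.mem_univ (⟨a, ha⟩ : T)))
        refine ⟨c ^ s • y ⟨a, ha⟩, Submodule.smul_mem _ _ (hy _), ?_⟩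
        rw [hs, smul_comm, pow_add, mul_comm (c ^ _), mul_smul, hj ⟨a, ha⟩, smul_comm]
      | zero => exact ⟨0, zero_mem _, by simp⟩
      | add a b _ _ h h' =>
        obtain ⟨y₁, h₁, e₁⟩ := h
        obtain ⟨y₂, h₂, e₂⟩ := h'
        exact ⟨y₁ + y₂, add_mem h₁ h₂, by rw [add_smul, e₁, e₂, smul_add]⟩
      | smul b a _ h =>
        obtain ⟨y₁, h₁, e₁⟩ := h
        exact ⟨b • y₁, Submodule.smul_mem _ _ h₁, by rw [smul_eq_mul, mul_smul, e₁, smul_comm]⟩⟩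
    have hz' : ℳ.res hU hE i z ∈ high (𝒮.presheaf.obj (op E)) (ℳ.deg E hE) k := by
      refine Submodule.span_induction (p := fun z _ => ℳ.res hU hE i z ∈ high _ (ℳ.deg E hE) k)
        (fun w hw => ?_) (by rw [map_zero]; exact zero_mem _) (fun a b _ _ h h' => by rw [map_add]; exact add_mem h h')
        (fun b a _ h => by rw [res_smul]; exact Submodule.smul_mem _ _ h) hz
      obtain ⟨q, hq, hwq⟩ := Set.mem_iUnion₂.mp hw
      exact mem_high hq (ℳ.map_mem hU hE i hwq)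
    have h2 := congrArg (ℳ.res hU hE i) hmz
    rw [res_smul, res_smul, map_pow, hlm, smul_smul, ← pow_add] at h2
    obtain ⟨v, hv⟩ := (hu.pow (Finset.univ.sup j + l)).exists_left_inv
    refine ⟨v • ℳ.res hU hE i z, Submodule.smul_mem _ _ hz', ?_⟩
    change x = (𝒮.res hU hE i) f • _
    rw [smul_comm, ← one_smul (𝒮.presheaf.obj (op E)) x, ← hv, mul_smul]
    congr 1

end Transfer

section Glue

/-- the sheaf of abelian groups underlying a graded module separates sections -/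
lemma eq_zero_of_locally {κ : Type u} (W : κ → Y.Opens) (D : Y.Opens) (hW : ∀ a, W a ≤ D) (hD : D ≤ ⨆ a, W a)
    (x : ℳ.mod.val.obj (op D)) (hx : ∀ a, (ℳ.mod.val.map (homOfLE (hW a)).op).hom x = 0) : x = 0 := by
  refine TopCat.Sheaf.eq_of_locally_eq' (F := ⟨ℳ.mod.val.presheaf, ℳ.mod.isSheaf⟩)
    W D (fun a => homOfLE (hW a)) hD x 0 fun a => ?_
  rw [map_zero]
  exact hx a

/-- restriction preserves being torsion for the irrelevant ideal -/
lemma torsion_res {U E : Y.Opens} (hU : IsAffineOpen U) (hE : IsAffineOpen E) (i : E ≤ U) (K : ℕ)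
    (x : ℳ.mod.val.obj (op U)) (hK : ∀ a ∈ irr (𝒮.deg U hU) ^ K, a • x = 0) :
    ∀ a ∈ irr (𝒮.deg E hE) ^ K, a • ℳ.res hU hE i x = 0 := by
  intro a ha
  have ha' := Ideal.pow_right_mono (irrelevant_le_map_res 𝒮 hU hE i) K ha
  change a ∈ (Ideal.map (𝒮.res hU hE i) (irr (𝒮.deg U hU))) ^ K at ha'
  rw [← Ideal.map_pow] at ha'
  refine Submodule.span_induction (p := fun a _ => a • ℳ.res hU hE i x = 0)
    (fun b hb => ?_) (zero_smul _ _) (fun a b _ _ h h' => by rw [add_smul, h, h', add_zero])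
    (fun b a _ h => by rw [smul_eq_mul, mul_smul, h, smul_zero]) ha'
  obtain ⟨b, hb, rfl⟩ := hb
  rw [← res_smul, hK b hb, map_zero]

/-- restriction of a twisted section -/
def sectRes {U E : Y.Opens} (hU : IsAffineOpen U) (hE : IsAffineOpen E) (i : E ≤ U) (n : ℤ)
    (s : sect (𝒮.deg U hU) (ℳ.deg U hU) n (op ⊤)) : sect (𝒮.deg E hE) (ℳ.deg E hE) n (op ⊤) :=
  comapApp (𝒮.res hU hE i) (irrelevant_le_map_res 𝒮 hU hE i) (ℳ.res hU hE i) (ℳ.res_mem hU hE i) n ⊤ ⊤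
    (fun _ _ => trivial) s

/-- representations of a section restrict to any preimage of its restriction -/
lemma rep_res {U E : Y.Opens} (hU : IsAffineOpen U) (hE : IsAffineOpen E) (i : E ≤ U) {n : ℕ}
    (s : sect (𝒮.deg U hU) (ℳ.deg U hU) (n : ℤ) (op ⊤)) (mE : ℳ.deg E hE n)
    (hmE : globalOf (𝒮.deg E hE) (ℳ.deg E hE) mE = sectRes hU hE i n s)
    {e : ℕ} {g : 𝒮.presheaf.obj (op U)} (he : 0 < e) (hg : g ∈ 𝒮.deg U hU e)
    {l : ℕ} {m : ℳ.mod.val.obj (op U)} (hr : GrSections.Rep (ℳ := ℳ.deg U hU) s e g l m) :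
    ∃ j : ℕ, (𝒮.res hU hE i g) ^ j •
      ((𝒮.res hU hE i g) ^ l • (mE : ℳ.mod.val.obj (op E)) - ℳ.res hU hE i m) = 0 := by
  obtain ⟨⟨q, hm, hi⟩, hs⟩ := hr
  have hi' : q = l * e + n := by exact_mod_cast hi
  refine exists_pow_smul_eq_zero (𝒮.deg E hE) (ℳ.deg E hE) he (𝒮.map_mem hU hE i hg)
    (j := l * e + n) ?_ fun y hy => ?_
  · have hgl : (𝒮.res hU hE i g) ^ l ∈ 𝒮.deg E hE (l * e) := by
      simpa using SetLike.pow_mem_graded l (𝒮.map_mem hU hE i hg)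
    refine sub_mem (gsmul_mem (𝒮.deg E hE) (ℳ.deg E hE) hgl mE.2) ?_
    exact ℳ.map_mem hU hE i (hi' ▸ hm)
  · have h1 := congrArg (fun t : sect (𝒮.deg E hE) (ℳ.deg E hE) (n : ℤ) (op ⊤) => (t.1 ⟨y, trivial⟩).1) hmE
    have hy' : g ∉ (ProjectiveSpectrum.comap (𝒮.res hU hE i)
        (irrelevant_le_map_res 𝒮 hU hE i) y).asHomogeneousIdeal := hy
    have h2 := congrArg (locModMap (𝒮.res hU hE i) (irrelevant_le_map_res 𝒮 hU hE i) (ℳ.res hU hE i) y)
      (hs _ hy')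
    have h3 : frac y (mE : ℳ.mod.val.obj (op E)) 1 (one_nin y) =
        frac y (ℳ.res hU hE i m) (𝒮.res hU hE i (g ^ l)) (fun h => pow_notMem hy' l h) :=
      (h1.trans h2).trans (locModMap_mk _ _ _ _ _ _)
    obtain ⟨a, ha, haz⟩ := frac_eq_iff.mp h3
    refine ⟨a, ha, ?_⟩
    rw [one_smul, map_pow] at haz
    exact haz

/-- a section is the image of an element once it is so on every chart -/
lemma globalOf_eq_of_rep {A M : Type u} [CommRing A] [AddCommGroup M] [Module A M] (𝒜 : ℕ → AddSubgroup A) [GradedRing 𝒜] (ℳ : ℕ → AddSubgroup M) [SetLike.GradedSMul 𝒜 ℳ] [DirectSum.Decomposition ℳ] {n : ℕ}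
    (s : sect 𝒜 ℳ (n : ℤ) (op ⊤)) (m : ℳ n)
    (h : ∀ (e : ℕ) (g : A), 0 < e → g ∈ 𝒜 e →
      ∀ (l : ℕ) (m' : M), GrSections.Rep (ℳ := ℳ) s e g l m' →
        ∃ J : ℕ, g ^ J • (g ^ l • (m : M) - m') = 0) :
    globalOf 𝒜 ℳ m = s := by
  refine sect_ext fun x => ?_
  obtain ⟨e, g, he, hg, hgx⟩ := exists_pos_notMem 𝒜 x.1
  obtain ⟨l, m', hr⟩ := GrSections.exists_rep s he hg
  obtain ⟨J, hJ⟩ := h e g he hg l m' hr
  rw [show (s.1 x).1 = frac x.1 m' (g ^ l) (pow_notMem hgx l) from hr.2 x.1 hgx]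
  refine frac_eq_iff.mpr ⟨g ^ J, pow_notMem hgx _, ?_⟩
  rw [one_smul]
  exact hJ

/-- the vanishing needed on a chart, glued from a finite cover -/
lemma rep_glue {U : Y.Opens} (hU : IsAffineOpen U) {κ : Type u} [Finite κ] (W : κ → Y.Opens)
    (hWa : ∀ a, IsAffineOpen (W a)) (hW : ∀ a, W a ≤ U) (hUW : U ≤ ⨆ a, W a)
    (g : 𝒮.presheaf.obj (op U)) (w : ℳ.mod.val.obj (op U))
    (h : ∀ a, ∃ j : ℕ, (𝒮.res hU (hWa a) (hW a) g) ^ j • ℳ.res hU (hWa a) (hW a) w = 0) :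
    ∃ J : ℕ, g ^ J • w = 0 := by
  classical
  have := Fintype.ofFinite κ
  choose j hj using h
  refine ⟨Finset.univ.sup j, eq_zero_of_locally W U hW hUW _ fun a => ?_⟩
  change ℳ.res hU (hWa a) (hW a) _ = 0
  obtain ⟨q, hq⟩ := Nat.exists_eq_add_of_le (Finset.le_sup (f := j) (Finset.mem_univ a))
  rw [res_smul, map_pow, hq, pow_add, mul_comm, mul_smul, hj a, smul_zero]

variable (hℳ : Coh.IsQCoh ((AMod.toOS 𝒮.toQCAlg).obj ℳ.mod))
  (hft : ∀ (U : Y.Opens) (hU : IsAffineOpen U), (𝒮.str.app (op U)).hom.FiniteType)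

/-- affine opens on which a `Good` datum with bound `N` exists -/
def GoodAt (N k : ℕ) (E : Y.Opens) (hE : IsAffineOpen E) : Prop :=
  ∃ d f, Good (𝒮.deg E hE) (ℳ.deg E hE) N k d f

include hℳ hft in
lemma goodAt_res [IsLocallyNoetherian Y] {N k : ℕ} {U E : Y.Opens} (hU : IsAffineOpen U) (hE : IsAffineOpen E) (i : E ≤ U)
    {r : Γ(Y, U)} (e : E = Y.basicOpen r) (h : GoodAt (ℳ := ℳ) N k U hU) : GoodAt (ℳ := ℳ) N k E hE := by
  obtain ⟨d, f, G⟩ := h
  have := isNoetherianRing_sections hft U hU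
  exact ⟨d, _, good_res hU hE i e hℳ G⟩

include hℳ hft in
/-- the local preimages of a section agree on common basic opens -/
lemma compat_on [IsLocallyNoetherian Y] {N k : ℕ} {U E E' D : Y.Opens} (hU : IsAffineOpen U) (hE : IsAffineOpen E) (hE' : IsAffineOpen E')
    (hD : IsAffineOpen D) (iE : E ≤ U) (iE' : E' ≤ U) (iD : D ≤ E) (iD' : D ≤ E')
    (hG : GoodAt (ℳ := ℳ) N k D hD) {n : ℕ} (hn : N ≤ n)
    (s : sect (𝒮.deg U hU) (ℳ.deg U hU) (n : ℤ) (op ⊤)) (mE : ℳ.deg E hE n) (mE' : ℳ.deg E' hE' n)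
    (hmE : globalOf (𝒮.deg E hE) (ℳ.deg E hE) mE = sectRes hU hE iE n s)
    (hmE' : globalOf (𝒮.deg E' hE') (ℳ.deg E' hE') mE' = sectRes hU hE' iE' n s) :
    ℳ.res hE hD iD (mE : ℳ.mod.val.obj (op E)) = ℳ.res hE' hD iD' (mE' : ℳ.mod.val.obj (op E')) := by
  classical
  have := isNoetherianRing_sections hft U hU
  have := isNoetherianRing_sections hft D hD
  obtain ⟨d, f, G⟩ := hG
  rw [← sub_eq_zero]
  refine G.tors n hn _ (sub_mem (ℳ.map_mem hE hD iD mE.2) (ℳ.map_mem hE' hD iD' mE'.2)) ?_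
  set z := ℳ.res hE hD iD (mE : ℳ.mod.val.obj (op E)) - ℳ.res hE' hD iD' (mE' : ℳ.mod.val.obj (op E')) with hz
  have iDU : D ≤ U := iD.trans iE
  have hrad : irr (𝒮.deg D hD) ≤
      Ideal.radical (LinearMap.ker (LinearMap.toSpanSingleton (𝒮.presheaf.obj (op D)) _ z)) := by
    refine le_trans (show irr (𝒮.deg D hD) ≤ Ideal.map (𝒮.res hU hD iDU) (irr (𝒮.deg U hU)) from
      irrelevant_le_map_res 𝒮 hU hD iDU) ?_
    refine Ideal.map_le_iff_le_comap.mpr (GrAlpha.irrelevant_le_of_forall fun e g he hg => ?_)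
    obtain ⟨l, m, hr⟩ := GrSections.exists_rep s he hg
    obtain ⟨j, hj⟩ := rep_res hU hE iE s mE hmE he hg hr
    obtain ⟨j', hj'⟩ := rep_res hU hE' iE' s mE' hmE' he hg hr
    have key : ∀ (F : Y.Opens) (hF : IsAffineOpen F) (iF : F ≤ U) (iDF : D ≤ F) (q : ℕ)
        (w : ℳ.mod.val.obj (op F)),
        (𝒮.res hU hF iF g) ^ q • ((𝒮.res hU hF iF g) ^ l • w - ℳ.res hU hF iF m) = 0 →
        (𝒮.res hU hD iDU g) ^ q • ((𝒮.res hU hD iDU g) ^ l • ℳ.res hF hD iDF w - ℳ.res hU hD iDU m) = 0 := by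
      intro F hF iF iDF q w hq
      have hg' : 𝒮.res hF hD iDF (𝒮.res hU hF iF g) = 𝒮.res hU hD iDU g :=
        congr($(𝒮.presheaf.map_comp (homOfLE iF).op (homOfLE iDF).op).hom g).symm
      have hm' : ℳ.res hF hD iDF (ℳ.res hU hF iF m) = ℳ.res hU hD iDU m :=
        congr($(ℳ.mod.val.presheaf.map_comp (homOfLE iF).op (homOfLE iDF).op).hom m).symm
      have h1 := congrArg (ℳ.res hF hD iDF) hq
      rw [map_zero, res_smul, map_sub, res_smul, map_pow, map_pow, hg', hm'] at h1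
      exact h1
    refine ⟨j + j' + l, ?_⟩
    rw [LinearMap.mem_ker, LinearMap.toSpanSingleton_apply, hz]
    have k1 := key E hE iE iD j _ hj
    have k2 := key E' hE' iE' iD' j' _ hj'
    rw [smul_sub, sub_eq_zero] at k1 k2
    rw [smul_sub, sub_eq_zero, show j + j' + l = j' + (j + l) by ring, pow_add _ j', mul_smul,
      pow_add _ j l, mul_smul, k1, smul_comm, ← k2]
    simp only [smul_smul]
    congr 1
    ring
  exact (Ideal.exists_pow_le_of_le_radical_of_fg hrad (IsNoetherian.noetherian _)).imp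
    fun K hK a ha => hK ha

include hℳ hft in
theorem bijective_of_cover [IsLocallyNoetherian Y] {N k : ℕ} (U : Y.Opens) (hU : IsAffineOpen U)
    (hcov : ∀ z ∈ U, ∃ (V : Y.Opens) (hV : IsAffineOpen V), z ∈ V ∧ GoodAt (ℳ := ℳ) N k V hV)
    (n : ℕ) (hn : N ≤ n) :
    Function.Bijective (GrMod.alpha (𝒮.deg U hU) (ℳ.deg U hU) n) := by
  classical
  have := isNoetherianRing_sections hft U hU
  let ι := {E : Y.affineOpens // (∃ r : Γ(Y, U), E.1 = Y.basicOpen r) ∧ E.1 ≤ U ∧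
    GoodAt (ℳ := ℳ) N k E.1 E.2}
  have hιcov : U ≤ ⨆ E : ι, E.1.1 := by
    intro z hz
    obtain ⟨V, hV, hzV, hGV⟩ := hcov z hz
    obtain ⟨E, hE, r, r', e, e', hzE⟩ := exists_common_basic hU hV (z := z) ⟨hz, hzV⟩
    exact Opens.mem_iSup.mpr ⟨⟨⟨E, hE⟩, ⟨r, e⟩, e.le.trans (Y.basicOpen_le _),
      goodAt_res hℳ hft hV hE (e'.le.trans (Y.basicOpen_le _)) e' hGV⟩, hzE⟩
  constructor
  · rw [injective_iff_map_eq_zero]
    intro x hx
    obtain ⟨K, hK⟩ := (GrAlpha.alpha_eq_zero_iff (𝒜 := 𝒮.deg U hU) (ℳ := ℳ.deg U hU) x).mp hx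
    refine Subtype.ext (eq_zero_of_locally (fun E : ι => E.1.1) U (fun E => E.2.2.1) hιcov _ fun E => ?_)
    obtain ⟨d, f, G⟩ := E.2.2.2
    exact G.tors n hn _ (ℳ.map_mem hU E.1.2 E.2.2.1 x.2) ⟨K, torsion_res hU E.1.2 E.2.2.1 K _ hK⟩
  · intro s
    have hloc : ∀ E : ι, ∃ m : ℳ.deg E.1.1 E.1.2 n,
        globalOf (𝒮.deg E.1.1 E.1.2) (ℳ.deg E.1.1 E.1.2) m = sectRes hU E.1.2 E.2.2.1 n s := fun E => by
      obtain ⟨d, f, G⟩ := E.2.2.2
      have := isNoetherianRing_sections hft E.1.1 E.1.2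
      exact (G.bijective n hn).2 _
    choose mE hmE using hloc
    have hcompat : TopCat.Presheaf.IsCompatible ℳ.mod.val.presheaf (fun E : ι => E.1.1)
        (fun E => (mE E : ℳ.mod.val.obj (op E.1.1))) := by
      intro E E'
      let κ := {D : Y.affineOpens // D.1 ≤ E.1.1 ∧ D.1 ≤ E'.1.1 ∧ GoodAt (ℳ := ℳ) N k D.1 D.2}
      refine TopCat.Sheaf.eq_of_locally_eq' (F := ⟨ℳ.mod.val.presheaf, ℳ.mod.isSheaf⟩)
        (fun D : κ => D.1.1) (E.1.1 ⊓ E'.1.1) (fun D => homOfLE (le_inf D.2.1 D.2.2.1)) ?_ _ _ fun D => ?_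
      · intro z hz
        obtain ⟨D, hD, r, r', e, e', hzD⟩ := exists_common_basic E.1.2 E'.1.2 (z := z) hz
        exact Opens.mem_iSup.mpr ⟨⟨⟨D, hD⟩, e.le.trans (Y.basicOpen_le _), e'.le.trans (Y.basicOpen_le _),
          goodAt_res hℳ hft E.1.2 hD (e.le.trans (Y.basicOpen_le _)) e E.2.2.2⟩, hzD⟩
      · rw [← ConcreteCategory.comp_apply, ← ConcreteCategory.comp_apply, ← Functor.map_comp, ← Functor.map_comp]
        exact compat_on hℳ hft hU E.1.2 E'.1.2 D.1.2 E.2.2.1 E'.2.2.1 D.2.1 D.2.2.1 D.2.2.2 hn s _ _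
          (hmE E) (hmE E')
    obtain ⟨m₀, hm₀, -⟩ := TopCat.Sheaf.existsUnique_gluing' ⟨ℳ.mod.val.presheaf, ℳ.mod.isSheaf⟩
      (fun E : ι => E.1.1) U (fun E => homOfLE E.2.2.1) hιcov _ hcompat
    let m : ℳ.deg U hU n := DirectSum.decompose (ℳ.deg U hU) m₀ n
    have hm : ∀ E : ι, ℳ.res hU E.1.2 E.2.2.1 (m : ℳ.mod.val.obj (op U)) = mE E := fun E => by
      refine (map_decompose_of_mem (ℳ.deg U hU) (ℳ.deg E.1.1 E.1.2) (ℳ.res hU E.1.2 E.2.2.1).toAddMonoidHom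
        (fun _ _ h => ℳ.map_mem hU E.1.2 E.2.2.1 h) m₀ n).trans ?_
      rw [show (ℳ.res hU E.1.2 E.2.2.1).toAddMonoidHom m₀ = (mE E : ℳ.mod.val.obj (op E.1.1)) from hm₀ E,
        DirectSum.decompose_of_mem_same _ (mE E).2]
    refine ⟨m, globalOf_eq_of_rep (𝒮.deg U hU) (ℳ.deg U hU) s m fun e g he hg l m' hr => ?_⟩
    obtain ⟨T, hT⟩ := hU.isCompact.elim_finite_subcover (fun E : ι => (E.1.1 : Set Y))
      (fun E => E.1.1.2) (fun z hz => by
        obtain ⟨E, hE⟩ := Opens.mem_iSup.mp (hιcov hz); exact Set.mem_iUnion.mpr ⟨E, hE⟩)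
    refine rep_glue hU (fun E : T => E.1.1.1) (fun E => E.1.1.2) (fun E => E.1.2.2.1) (fun z hz => ?_) g _
      fun E => ?_
    · obtain ⟨E, hET, hzE⟩ := Set.mem_iUnion₂.mp (hT hz)
      exact Opens.mem_iSup.mpr ⟨⟨E, hET⟩, hzE⟩
    · obtain ⟨j, hj⟩ := rep_res hU E.1.1.2 E.1.2.2.1 s (mE E.1) (hmE E.1) he hg hr
      exact ⟨j, by rw [map_sub, res_smul, map_pow, hm E.1]; exact hj⟩

include hℳ hft in
theorem uniform_bijective [AlgebraicGeometry.IsNoetherian Y] (hTF : ℳ.IsTF) :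
    ∃ N : ℕ, ∀ n : ℕ, N ≤ n → ∀ (U : Y.Opens) (hU : IsAffineOpen U),
      Function.Bijective (GrMod.alpha (𝒮.deg U hU) (ℳ.deg U hU) n) := by
  classical
  obtain ⟨k, hk⟩ := hTF
  have hloc : ∀ V : Y.affineOpens, ∃ N d f, Good (𝒮.deg V.1 V.2) (ℳ.deg V.1 V.2) N k d f := fun V => by
    have := isNoetherianRing_sections hft V.1 V.2
    exact exists_good (hk V.1 V.2)
  choose N d f hG using hloc
  obtain ⟨s, hs⟩ := isCompact_univ.elim_finite_subcover (fun U : Y.affineOpens => (U.1 : Set Y))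
    (fun U => U.1.2) (fun y _ => by
      obtain ⟨_, ⟨U, hU, rfl⟩, hy, -⟩ :=
        Y.isBasis_affineOpens.exists_subset_of_mem_open (Set.mem_univ y) isOpen_univ
      exact Set.mem_iUnion.mpr ⟨⟨U, hU⟩, hy⟩)
  refine ⟨s.sup N, fun n hn U hU => bijective_of_cover hℳ hft (N := s.sup N) (k := k) U hU
    (fun z _ => ?_) n hn⟩
  obtain ⟨V, hVs, hzV⟩ := Set.mem_iUnion₂.mp (hs (Set.mem_univ z))
  have hle : N V ≤ s.sup N := Finset.le_sup hVs
  exact ⟨V.1, V.2, hzV, d V, f V, (hG V).le.trans hle, (hG V).pos, (hG V).mem,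
    fun m hm => (hG V).reg m (hle.trans hm), fun m hm => (hG V).tors m (hle.trans hm),
    fun m hm => (hG V).sat m (hle.trans hm)⟩

end Glue

end Groth.Agent.GrSerre43

end
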