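import Groth.Agent.EGAProj74.SelfModule
import Groth.Agent.QC70.FiniteType
import Groth.Agent.GrSerre43.Eventual
import Groth.Agent.GrSerre43.Uniform

/-! `M(n)~` is of finite type when the high pieces of `M` are generated by finitely many elements. -/

set_option autoImplicit false
set_option backward.isDefEq.respectTransparency.types false

universe u

open CategoryTheory CategoryTheory.Limits AlgebraicGeometry TopologicalSpace Opposite GrMod
open scoped HomogeneousIdeal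

noncomputable section

namespace Groth.Agent.GrSerre43

open Groth.Agent.EGAProj74 Groth.Agent.EGAProj74.GrT Groth.Agent.LC17

section Ring

variable {A σ : Type u} [CommRing A] [SetLike σ A] [AddSubgroupClass σ A] {𝒜 : ℕ → σ} [GradedRing 𝒜]
  {M τ : Type u} [AddCommGroup M] [Module A M] [SetLike τ M] [AddSubgroupClass τ M] {ℳ : ℕ → τ}
  [SetLike.GradedSMul 𝒜 ℳ] [DirectSum.Decomposition ℳ]

/-- the component of a product with a homogeneous element -/
lemma decompose_smul_of_mem {b e : ℕ} {z : M} (hz : z ∈ ℳ b) (c : A) :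
    (DirectSum.decompose ℳ (c • z) (e + b) : M) = (DirectSum.decompose 𝒜 c e : A) • z := by
  classical
  conv_lhs => rw [← DirectSum.sum_support_decompose 𝒜 c, Finset.sum_smul]
  rw [DirectSum.decompose_sum, DFinsupp.finsetSum_apply, AddSubmonoidClass.coe_finsetSum,
    Finset.sum_eq_single e]
  · exact DirectSum.decompose_of_mem_same ℳ (gsmul_mem 𝒜 ℳ (SetLike.coe_mem _) hz)
  · intro i _ hi
    exact DirectSum.decompose_of_mem_ne ℳ (gsmul_mem 𝒜 ℳ (SetLike.coe_mem _) hz) (by omega)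
  · intro hi
    simp only [DFinsupp.notMem_support_iff] at hi
    simp [hi]

theorem finite_sections_of_gens {d : ℕ} (hd : 0 < d) {f : A} (hf : f ∈ 𝒜 d) (n : ℤ)
    {ι : Type} [Fintype ι] (g : ι → M) (q : ι → ℕ)
    (hg : ∀ j, ∃ b, g j ∈ ℳ b ∧ (b : ℤ) = q j * d + n)
    (h : ∃ K : ℕ, ∀ k i : ℕ, K ≤ k → (i : ℤ) = k * d + n → ∀ m ∈ ℳ i, m ∈ Submodule.span A (Set.range g)) :
    Module.Finite Γ(Proj 𝒜, Proj.basicOpen 𝒜 f) Γ(GrMod.tilde 𝒜 ℳ n, Proj.basicOpen 𝒜 f) := by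
  classical
  obtain ⟨K, hK⟩ := h
  choose b hgb hb using hg
  have hfj : ∀ j : ℕ, f ^ j ∈ 𝒜 (j * d) := fun j => by simpa using SetLike.pow_mem_graded j hf
  let σj : ι → Γ(GrMod.tilde 𝒜 ℳ n, Proj.basicOpen 𝒜 f) := fun j =>
    fracSect (U := ProjectiveSpectrum.basicOpen 𝒜 f) (hgb j) (hfj (q j)) (fun x => pow_notMem x.2 _)
      (by rw [hb j]; push_cast; ring)
  refine ⟨⟨Finset.univ.image σj, top_le_iff.mp fun s _ => ?_⟩⟩
  rw [Finset.coe_image, Finset.coe_univ, Set.image_univ]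
  obtain ⟨k, i, m, hm, hi, hs⟩ := GrT.exists_frac_eq hd hf
    (s : sect 𝒜 ℳ n (op (ProjectiveSpectrum.basicOpen 𝒜 f)))
  obtain ⟨J, hJK, hJq⟩ : ∃ J, K ≤ J ∧ ∀ j, q j ≤ J :=
    ⟨K + Finset.univ.sup q, by omega, fun j => (Finset.le_sup (Finset.mem_univ j)).trans (Nat.le_add_left _ _)⟩
  have hmJ : f ^ J • m ∈ ℳ (J * d + i) := gsmul_mem 𝒜 ℳ (hfj J) hm
  obtain ⟨c, hc⟩ := (Submodule.mem_span_range_iff_exists_fun _).mp
    (hK (J + k) (J * d + i) (by omega) (by push_cast; rw [hi]; ring) _ hmJ)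
  let e : ι → ℕ := fun j => (J + k - q j) * d
  have hdeg : ∀ j, J * d + i = e j + b j := fun j => by
    have h1 : ((J + k - q j : ℕ) : ℤ) = J + k - q j := by rw [Nat.cast_sub (by have := hJq j; omega)]; push_cast; ring
    have : ((J * d + i : ℕ) : ℤ) = ((e j + b j : ℕ) : ℤ) := by
      simp only [e, Nat.cast_add, Nat.cast_mul, h1, hi, hb j]
      ring
    exact_mod_cast this
  let c' : ι → A := fun j => DirectSum.decompose 𝒜 (c j) (e j)
  have hmeq : f ^ J • m = ∑ j, c' j • g j := by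
    rw [← DirectSum.decompose_of_mem_same ℳ hmJ, ← hc, DirectSum.decompose_sum, DFinsupp.finsetSum_apply,
      AddSubmonoidClass.coe_finsetSum]
    refine Finset.sum_congr rfl fun j _ => ?_
    rw [hdeg j]
    exact decompose_smul_of_mem (hgb j) (c j)
  let a : ι → Γ(Proj 𝒜, Proj.basicOpen 𝒜 f) := fun j => Proj.awayToSection 𝒜 f (HomogeneousLocalization.mk
    ⟨e j, ⟨c' j, SetLike.coe_mem _⟩, ⟨f ^ (J + k - q j), hfj _⟩, ⟨_, rfl⟩⟩)
  have hsum : s = ∑ j, a j • σj j := by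
    refine GrT.sect_ext fun x => ?_
    let ev : sect 𝒜 ℳ n (op (ProjectiveSpectrum.basicOpen 𝒜 f)) →+ LocMod 𝒜 (M := M) x.1 :=
      AddMonoidHom.mk' (fun t => (t.1 x).1) fun _ _ => rfl
    change ev s = ev (∑ j, a j • σj j)
    rw [map_sum]
    have hterm : ∀ j, ev (a j • σj j) = frac x.1 (c' j • g j) (f ^ (J + k)) (pow_notMem x.2 _) := fun j => by
      show (a0Frac x.1 (SetLike.coe_mem (DirectSum.decompose 𝒜 (c j) (e j))) (hfj (J + k - q j))
          (pow_notMem x.2 _)) • frac x.1 (g j) (f ^ q j) (pow_notMem x.2 _) = _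
      rw [a0_smul_def, a0Frac, HomogeneousLocalization.val_mk]
      refine (LocalizedModule.mk_smul_mk _ _ _ _).trans (frac_congr ?_)
      rw [← pow_add, Nat.sub_add_cancel (by have := hJq j; omega)]
    simp only [hterm]
    rw [show ev s = _ from hs x]
    have hfr : frac x.1 m (f ^ k) (pow_notMem x.2 k) = frac x.1 (f ^ J • m) (f ^ (J + k)) (pow_notMem x.2 _) :=
      frac_congr (by rw [smul_smul, pow_add, mul_comm])
    let num : M →+ LocMod 𝒜 (M := M) x.1 :=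
      AddMonoidHom.mk' (fun z => frac x.1 z (f ^ (J + k)) (pow_notMem x.2 _)) fun y z => by
        simp only [frac]
        rw [LocalizedModule.mk_add_mk]
        refine frac_congr ?_
        simp [Submonoid.smul_def, smul_add, smul_smul]
    rw [hfr, hmeq]
    exact map_sum num _ _
  rw [hsum]
  exact Submodule.sum_mem _ fun j _ => Submodule.smul_mem _ _ (Submodule.subset_span ⟨j, rfl⟩)

theorem finite_sections_of_fg {d : ℕ} (hd : 0 < d) {f : A} (hf : f ∈ 𝒜 d) (n : ℤ) (S : Set M)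
    (hS : ∀ m ∈ S, ∃ b q : ℕ, m ∈ ℳ b ∧ (b : ℤ) = q * d + n) (hfg : (Submodule.span A S).FG)
    (h : ∃ K : ℕ, ∀ k i : ℕ, K ≤ k → (i : ℤ) = k * d + n → ∀ m ∈ ℳ i, m ∈ S) :
    Module.Finite Γ(Proj 𝒜, Proj.basicOpen 𝒜 f) Γ(GrMod.tilde 𝒜 ℳ n, Proj.basicOpen 𝒜 f) := by
  classical
  obtain ⟨T, hT, hspan⟩ := (Submodule.fg_span_iff_fg_span_finset_subset _).mp hfg
  obtain ⟨N, e⟩ : ∃ N, N = T.card := ⟨_, rfl⟩
  let g : Fin N → M := fun j => (T.equivFin.symm (Fin.cast e j) : M)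
  have hgT : Set.range g = (T : Set M) := by
    subst e
    ext m
    simp only [g, Fin.cast_eq_self, Set.mem_range]
    exact ⟨fun ⟨j, hj⟩ => hj ▸ (T.equivFin.symm j).2, fun hm => ⟨T.equivFin ⟨m, hm⟩, by simp⟩⟩
  have hg : ∀ j, ∃ b q : ℕ, g j ∈ ℳ b ∧ (b : ℤ) = q * d + n := fun j =>
    hS _ (hT (hgT.subset ⟨j, rfl⟩))
  choose b q hgb hb using hg
  obtain ⟨K, hK⟩ := h
  refine finite_sections_of_gens hd hf n g q (fun j => ⟨b j, hgb j, hb j⟩)
    ⟨K, fun k i hk hi m hm => ?_⟩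
  rw [hgT, ← hspan]
  exact Submodule.subset_span (hK k i hk hi m hm)

end Ring

section Rel

variable {Y P : Scheme.{u}} {𝒮 : RelProj.QCGrAlg Y} {p : P ⟶ Y}
  {chart : ∀ (U : Y.Opens) (hU : IsAffineOpen U), (((p ⁻¹ᵁ U : P.Opens) : Scheme.{u}) ≅ Proj (𝒮.deg U hU))}
  {ℳ : RelProj.GrModule 𝒮} {n : ℤ} {F : P.Modules}
  {mu : ∀ (U : Y.Opens) (hU : IsAffineOpen U),
    F ⟶ (Scheme.Modules.pushforward (RelProj.emb p chart U hU)).obj (GrMod.tilde (𝒮.deg U hU) (ℳ.deg U hU) n)}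

theorem isFT_of_isRelTilde (hF : RelProj.IsRelTilde 𝒮 p chart ℳ n F mu)
    (hloc : ∀ (U : Y.Opens) (hU : IsAffineOpen U), ∃ (T : Set (𝒮.presheaf.obj (op U))),
      (∀ f ∈ T, ∃ d, 0 < d ∧ f ∈ 𝒮.deg U hU d ∧
        Module.Finite Γ(Proj (𝒮.deg U hU), Proj.basicOpen (𝒮.deg U hU) f)
          Γ(GrMod.tilde (𝒮.deg U hU) (ℳ.deg U hU) n, Proj.basicOpen (𝒮.deg U hU) f)) ∧
      ∀ x : Proj (𝒮.deg U hU), ∃ f ∈ T, x ∈ Proj.basicOpen (𝒮.deg U hU) f) :
    F.IsFiniteType := by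
  have : F.IsQuasicoherent := isQCoh_of_isRelTilde hF
  choose T hT hcovT using hloc
  let κ := Σ U : Y.affineOpens, {f : 𝒮.presheaf.obj (op U.1) // f ∈ T U.1 U.2}
  let V : κ → P.Opens := fun a =>
    RelProj.emb p chart a.1.1 a.1.2 ''ᵁ Proj.basicOpen (𝒮.deg a.1.1 a.1.2) a.2.1
  refine QC70.isFiniteType_of_finite_sections F V (IsOpenCover.mk (top_le_iff.mp fun x _ => ?_))
    (fun a => ?_) fun a => ?_
  · obtain ⟨_, ⟨U, hU, rfl⟩, hx, -⟩ :=
      Y.isBasis_affineOpens.exists_subset_of_mem_open (Set.mem_univ (p x)) isOpen_univ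
    have hx' : x ∈ (RelProj.emb p chart U hU).opensRange := by rw [opensRange_emb]; exact hx
    obtain ⟨y, rfl⟩ := hx'
    obtain ⟨f, hf, hy⟩ := hcovT U hU y
    exact Opens.mem_iSup.mpr ⟨⟨⟨U, hU⟩, f, hf⟩, y, hy, rfl⟩
  · obtain ⟨⟨U, hU⟩, f, hf⟩ := a
    obtain ⟨d, hd, hfd, -⟩ := hT U hU f hf
    exact (Proj.isAffineOpen_basicOpen _ f hfd hd).image_of_isOpenImmersion _
  · obtain ⟨⟨U, hU⟩, f, hf⟩ := a
    obtain ⟨d, hd, hfd, hfin⟩ := hT U hU f hf
    let e := RelProj.emb p chart U hU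
    have := isIso_restrictHom e (mu U hU)
      (fun W hW => hF.bijective U hU W (hW.trans_eq (opensRange_emb U hU)))
    let ψ : GrMod.tilde (𝒮.deg U hU) (ℳ.deg U hU) n ⟶ F.restrict e := inv (restrictHom e (mu U hU))
    let D := Proj.basicOpen (𝒮.deg U hU) f
    let τ : Γ(Proj (𝒮.deg U hU), D) →+* Γ(P, e ''ᵁ D) := (e.appIso D).inv.hom
    let g : Γ(GrMod.tilde (𝒮.deg U hU) (ℳ.deg U hU) n, D) →ₛₗ[τ] Γ(F, e ''ᵁ D) :=
      { toFun := fun x => ψ.app D x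
        map_add' := map_add _
        map_smul' := fun r x => ψ.app_smul r x }
    have hg : Function.Surjective g := (ConcreteCategory.bijective_of_isIso (ψ.app D)).2
    have : RingHomSurjective τ := ⟨(ConcreteCategory.bijective_of_isIso (e.appIso D).inv).2⟩
    exact Module.Finite.of_surjective g hg

theorem isFT_of_isTF (hgen : 𝒮.IsGenDegOne) (hft : 𝒮.IsFTDeg 1) (hTF : ℳ.IsTF)
    {mu : ∀ (U : Y.Opens) (hU : IsAffineOpen U),
      F ⟶ (Scheme.Modules.pushforward (RelProj.emb p chart U hU)).obj (GrMod.tilde (𝒮.deg U hU) (ℳ.deg U hU) 0)}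
    (hF : RelProj.IsRelTilde 𝒮 p chart ℳ 0 F mu) : F.IsFiniteType := by
  obtain ⟨k, hk⟩ := hTF
  refine isFT_of_isRelTilde hF fun U hU => ?_
  obtain ⟨T, hT, hspan⟩ := hft U hU
  refine ⟨(T : Set _), fun f hf => ⟨1, one_pos, hT hf, ?_⟩, fun x => ?_⟩
  · refine finite_sections_of_fg one_pos (hT hf) 0 _ (fun m hm => ?_) (hk U hU)
      ⟨k, fun l i hl hi m hm => Set.mem_iUnion₂.mpr ⟨i, ?_, hm⟩⟩
    · obtain ⟨i, -, hi⟩ := Set.mem_iUnion₂.mp hm
      exact ⟨i, i, hi, by simp⟩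
    · simp only [Nat.cast_one, mul_one, add_zero, Nat.cast_inj] at hi
      exact hi ▸ hl
  · by_contra H
    push Not at H
    refine (x : ProjectiveSpectrum (𝒮.deg U hU)).not_irrelevant_le
      ((irrelevant_le_span_finset (hgen U hU) (𝒮.strZero U hU).hom T hspan : irr (𝒮.deg U hU) ≤ _).trans
        (Ideal.span_le.mpr fun f hf => ?_))
    exact not_not.mp (H f hf)

theorem isCoh_relTwist [IsLocallyNoetherian Y]
    (hft : ∀ (U : Y.Opens) (hU : IsAffineOpen U), (𝒮.str.app (op U)).hom.FiniteType)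
    (hP : RelProj.IsRelProj 𝒮 p chart) {L : P.Modules}
    {lam : ∀ (U : Y.Opens) (hU : IsAffineOpen U),
      L ⟶ (Scheme.Modules.pushforward (RelProj.emb p chart U hU)).obj (GrTwist.twist (𝒮.deg U hU) n)}
    (hL : RelProj.IsRelTwist 𝒮 p chart n L lam) : Coh.IsCoh L := by
  refine ⟨isQCoh_of_isRelTwist hL, isFT_of_isRelTilde (isRelTilde_of_isRelTwist (hP := hP) hL) fun U hU => ?_⟩
  have := isNoetherianRing_sections hft U hU
  refine ⟨{f | ∃ d, 0 < d ∧ f ∈ 𝒮.deg U hU d}, fun f hf => ?_, fun x => ?_⟩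
  · obtain ⟨d, hd, hfd⟩ := hf
    refine ⟨d, hd, hfd, ?_⟩
    refine finite_sections_of_fg (ℳ := (selfModule 𝒮).deg U hU) hd hfd n
      {m | ∃ b q : ℕ, m ∈ (selfModule 𝒮).deg U hU b ∧ (b : ℤ) = q * d + n} (fun m hm => hm)
      ((inferInstance : IsNoetherian (𝒮.presheaf.obj (op U)) (𝒮.presheaf.obj (op U))).noetherian _)
      ⟨0, fun k i _ hi m hm => ⟨i, k, hm, hi⟩⟩
  · obtain ⟨e, g, he, hg, hgx⟩ := exists_pos_notMem (𝒮.deg U hU) x
    exact ⟨g, ⟨e, he, hg⟩, hgx⟩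

end Rel

end Groth.Agent.GrSerre43

end
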