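import Groth.Agent.EGAProj74.TildeRows
import Groth.Agent.EGAProj74.GenDegOne
import Groth.Agent.EGAProj74.GrLoc
import Groth.Agent.GrSerre43.Eventual

/-! If `ℳ~ = 0` and `ℳ` satisfies (TF) then `ℳ` satisfies (TN). -/

set_option autoImplicit false
set_option backward.isDefEq.respectTransparency.types false

universe u

open CategoryTheory CategoryTheory.Limits AlgebraicGeometry TopologicalSpace Opposite
open scoped HomogeneousIdeal

noncomputable section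

namespace Groth.Agent.GrSerre43

open Groth.Agent.EGAProj74 Groth.Agent.EGAProj74.GrT Groth.Agent.LC17

section Ring

variable {A σ : Type u} [CommRing A] [SetLike σ A] [AddSubgroupClass σ A] {𝒜 : ℕ → σ} [GradedRing 𝒜]
  {M τ : Type u} [AddCommGroup M] [Module A M] [SetLike τ M] [AddSubgroupClass τ M] {ℳ : ℕ → τ}
  [SetLike.GradedSMul 𝒜 ℳ] [DirectSum.Decomposition ℳ]

lemma pow_irr_of_gen (hgen : Subring.closure ((𝒜 0 : Set A) ∪ (𝒜 1 : Set A)) = ⊤) :
    ∀ j, ∀ a ∈ 𝒜 j, a ∈ irr 𝒜 ^ j := by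
  intro j
  induction j with
  | zero => intro a _; simp
  | succ j ih =>
    intro a ha
    refine (AddSubgroup.closure_le (K := (irr 𝒜 ^ (j + 1)).toAddSubgroup)).mpr ?_
      (mem_closure_mul_of_gen hgen ha)
    rintro _ ⟨x, hx, y, hy, rfl⟩
    rw [pow_succ]
    exact Ideal.mul_mem_mul (ih x hx) (HomogeneousIdeal.mem_irrelevant_of_mem 𝒜 one_pos hy)

/-- a high-degree-finite module all of whose elements are torsion vanishes in high degrees -/
lemma eventually_zero (hgen : Subring.closure ((𝒜 0 : Set A) ∪ (𝒜 1 : Set A)) = ⊤)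
    (T : Finset A) (hT : irr 𝒜 ≤ Ideal.span (T : Set A)) {k : ℕ} (hTF : TF ℳ k (A := A))
    (htors : ∀ t ∈ T, ∀ i, ∀ m ∈ ℳ i, ∃ N : ℕ, t ^ N • m = 0) :
    ∃ n, ∀ i, n ≤ i → ∀ m ∈ ℳ i, m = 0 := by
  classical
  obtain ⟨G, hG⟩ := hTF
  have hkill : ∀ g : M, ∃ K : ℕ, irr 𝒜 ^ K ≤ LinearMap.ker (LinearMap.toSpanSingleton A M g) := by
    intro g
    have hrad : Ideal.span (T : Set A) ≤
        Ideal.radical (LinearMap.ker (LinearMap.toSpanSingleton A M g)) := by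
      refine Ideal.span_le.mpr fun t ht => ?_
      choose N hN using fun i => htors t ht i _ (SetLike.coe_mem (DirectSum.decompose ℳ g i))
      obtain ⟨S, hS⟩ : ∃ S, ∀ i ∈ (DirectSum.decompose ℳ g).support, N i ≤ S :=
        ⟨_, fun i hi => Finset.le_sup (f := N) hi⟩
      refine ⟨S, ?_⟩
      rw [LinearMap.mem_ker, LinearMap.toSpanSingleton_apply, ← DirectSum.sum_support_decompose ℳ g,
        Finset.smul_sum]
      refine Finset.sum_eq_zero fun i hi => ?_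
      obtain ⟨c, hc⟩ := Nat.exists_eq_add_of_le (hS i hi)
      rw [hc, pow_add, mul_comm, mul_smul, hN, smul_zero]
    obtain ⟨K, hK⟩ := Ideal.exists_pow_le_of_le_radical_of_fg hrad
      (Submodule.fg_span (Finset.finite_toSet T))
    exact ⟨K, (Ideal.pow_right_mono hT K).trans hK⟩
  choose K hK using hkill
  let B := G.sup fun g => (DirectSum.decompose ℳ g).support.sup id
  refine ⟨k + B + G.sup K + 1, fun i hi m hm => ?_⟩
  have hms : m ∈ Submodule.span A (G : Set M) := hG.symm ▸ mem_high (k := k) (by omega) hm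
  rw [← DirectSum.decompose_of_mem_same ℳ hm]
  obtain ⟨c, -, rfl⟩ := Submodule.mem_span_finset.mp hms
  rw [DirectSum.decompose_sum]
  erw [DFinsupp.finsetSum_apply]
  rw [AddSubmonoidClass.coe_finsetSum]
  refine Finset.sum_eq_zero fun g hg => ?_
  rw [← DirectSum.sum_support_decompose 𝒜 (c g), Finset.sum_smul, DirectSum.decompose_sum]
  erw [DFinsupp.finsetSum_apply]
  rw [AddSubmonoidClass.coe_finsetSum]
  refine Finset.sum_eq_zero fun j _ => ?_
  by_cases hj : K g ≤ j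
  · have h0 : (DirectSum.decompose 𝒜 (c g) j : A) • g = 0 :=
      hK g (Ideal.pow_le_pow_right hj (pow_irr_of_gen hgen j _ (SetLike.coe_mem _)))
    rw [h0]; simp
  · have h1 := Finset.le_sup (f := K) hg
    have h := GrCoker.zcomp_smul (ℳ := ℳ) (SetLike.coe_mem (DirectSum.decompose 𝒜 (c g) j))
      ((i - j : ℕ) : ℤ) g
    rw [show ((i - j : ℕ) : ℤ) + (j : ℤ) = ((i : ℕ) : ℤ) by omega] at h
    simp only [GrCoker.zcomp, if_pos (Int.natCast_nonneg _), Int.toNat_natCast] at h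
    rw [h]
    have : DirectSum.decompose ℳ g (i - j) = 0 := by
      by_contra hne
      have h2 : i - j ≤ (DirectSum.decompose ℳ g).support.sup id :=
        Finset.le_sup (f := id) (DFinsupp.mem_support_iff.mpr hne)
      have h3 := Finset.le_sup (f := fun g => (DirectSum.decompose ℳ g).support.sup id) hg
      simp only [B] at hi
      omega
    rw [this, ZeroMemClass.coe_zero, smul_zero]

end Ring

variable {Y P : Scheme.{u}} {𝒮 : RelProj.QCGrAlg Y} {p : P ⟶ Y}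
  {chart : ∀ (U : Y.Opens) (hU : IsAffineOpen U), (((p ⁻¹ᵁ U : P.Opens) : Scheme.{u}) ≅ Proj (𝒮.deg U hU))}
  {ℳ : RelProj.GrModule 𝒮} {F : P.Modules}
  {lam : ∀ (U : Y.Opens) (hU : IsAffineOpen U),
      F ⟶ (Scheme.Modules.pushforward (RelProj.emb p chart U hU)).obj (GrMod.tilde (𝒮.deg U hU) (ℳ.deg U hU) 0)}

lemma torsion_of_isZero (hF : RelProj.IsRelTilde 𝒮 p chart ℳ 0 F lam) (h0 : IsZero F)
    (U : Y.Opens) (hU : IsAffineOpen U) (t : 𝒮.presheaf.obj (op U)) (ht : t ∈ 𝒮.deg U hU 1)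
    (i : ℕ) (m : ℳ.mod.val.obj (op U)) (hm : m ∈ ℳ.deg U hU i) : ∃ N : ℕ, t ^ N • m = 0 := by
  classical
  refine exists_pow_smul_eq_zero (𝒮.deg U hU) (ℳ.deg U hU) one_pos ht hm fun x hx => ?_
  let e := RelProj.emb p chart U hU
  let D : (Proj (𝒮.deg U hU)).Opens := ProjectiveSpectrum.basicOpen (𝒮.deg U hU) t
  let s : GrMod.sect (𝒮.deg U hU) (ℳ.deg U hU) (0 : ℤ) (op D) :=
    fracSect hm (by simpa using SetLike.pow_mem_graded i ht) (fun y => pow_notMem y.2 i) (by simp)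
  have hW : e ''ᵁ D ≤ p ⁻¹ᵁ U := by
    refine le_trans ?_ (le_of_eq (opensRange_emb (p := p) (chart := chart) U hU))
    exact e.image_le_opensRange D
  have hsub : Subsingleton ((GrMod.tilde (𝒮.deg U hU) (ℳ.deg U hU) 0).presheaf.obj (op (e ⁻¹ᵁ (e ''ᵁ D)))) := by
    have hz : Subsingleton Γ(F, e ''ᵁ D) := by
      refine ⟨fun a b => ?_⟩
      have h1 : 𝟙 F = 0 := h0.eq_of_src _ _
      have key : ∀ a : Γ(F, e ''ᵁ D), a = 0 := fun a => by
        have h2 := congr(($h1).app (e ''ᵁ D) a)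
        simpa using h2
      rw [key a, key b]
    exact (hF.bijective U hU _ hW).2.subsingleton
  rw [Scheme.Hom.preimage_image_eq] at hsub
  have h1 : s = 0 := @Subsingleton.elim _ hsub _ _
  have h2 := congrArg (fun s : GrMod.sect (𝒮.deg U hU) (ℳ.deg U hU) (0 : ℤ) (op D) => (s.1 ⟨x, hx⟩).1) h1
  exact frac_eq_zero_iff.mp h2

theorem isTN_of_isZero [CompactSpace Y] (hgen : 𝒮.IsGenDegOne) (hft : 𝒮.IsFTDeg 1)
    (hℳ : Coh.IsQCoh ((AMod.toOS 𝒮.toQCAlg).obj ℳ.mod)) (hTF : ℳ.IsTF)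
    (hF : RelProj.IsRelTilde 𝒮 p chart ℳ 0 F lam) (h0 : IsZero F) : ℳ.IsTN := by
  classical
  obtain ⟨k, hk⟩ := hTF
  have hloc : ∀ (U : Y.affineOpens), ∃ n, ∀ i, n ≤ i → ∀ m ∈ ℳ.deg U.1 U.2 i, m = 0 := by
    rintro ⟨U, hU⟩
    obtain ⟨T, hT, hspan⟩ := hft U hU
    refine eventually_zero (hgen U hU) T ?_ (hk U hU) fun t ht i m hm =>
      torsion_of_isZero hF h0 U hU t (hT ht) i m hm
    exact irrelevant_le_span_finset (hgen U hU) (𝒮.strZero U hU).hom T hspan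
  choose n hn using hloc
  obtain ⟨s, hs⟩ := isCompact_univ.elim_finite_subcover (fun U : Y.affineOpens => (U.1 : Set Y))
    (fun U => U.1.2) (fun y _ => by
      obtain ⟨_, ⟨U, hU, rfl⟩, hy, -⟩ :=
        Y.isBasis_affineOpens.exists_subset_of_mem_open (Set.mem_univ y) isOpen_univ
      exact Set.mem_iUnion.mpr ⟨⟨U, hU⟩, hy⟩)
  refine ⟨s.sup n, fun U hU i hi m hm => ?_⟩
  let ι := {E : Y.affineOpens // (∃ r : Γ(Y, U), E.1 = Y.basicOpen r) ∧ E.1 ≤ U ∧
    ∀ m' ∈ ℳ.deg E.1 E.2 i, m' = 0}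
  refine TopCat.Sheaf.eq_of_locally_eq' (F := ⟨ℳ.mod.val.presheaf, ℳ.mod.isSheaf⟩)
    (fun E : ι => E.1.1) U (fun E => homOfLE E.2.2.1) ?_ m 0 fun E => ?_
  · intro z hz
    obtain ⟨V, hVs, hzV⟩ := Set.mem_iUnion₂.mp (hs (Set.mem_univ z))
    obtain ⟨E, hE, r, r', e, e', hzE⟩ := exists_common_basic hU V.2 (z := z) ⟨hz, hzV⟩
    refine Opens.mem_iSup.mpr ⟨⟨⟨E, hE⟩, ⟨r, e⟩, e.le.trans (Y.basicOpen_le _), fun m' hm' => ?_⟩, hzE⟩
    obtain ⟨l, m₀, hm₀, h⟩ := exists_deg_res_mod V.2 hE (e'.le.trans (Y.basicOpen_le _)) e' ℳ hℳ hm'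
    have hz0 : m₀ = 0 := hn V i ((Finset.le_sup (f := n) hVs).trans hi) m₀ hm₀
    rw [hz0, map_zero] at h
    exact (IsUnit.smul_eq_zero ((isUnit_res_str 𝒮 V.2 (e'.le.trans (Y.basicOpen_le _)) e').pow l)).mp h.symm
  · rw [map_zero]
    exact E.2.2.2 _ (ℳ.map_mem hU E.1.2 E.2.2.1 hm)

end Groth.Agent.GrSerre43

end
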